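import Groth.Agent.MaxTorus.Chart
/-!
The maximal torus of a group of multiplicative type.
-/

set_option autoImplicit false
set_option backward.isDefEq.respectTransparency false
set_option backward.isDefEq.respectTransparency.types false
set_option linter.style.haveILetI false
set_option linter.unusedSectionVars false

universe u

open CategoryTheory CategoryTheory.Limits MonoidalCategory CartesianMonoidalCategory MonObj AlgebraicGeometry

noncomputable section

namespace Groth.Agent.MaxTorus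

open FixedSmooth HomTriv DSMapLib QuotTorus

variable {S : Scheme.{u}}

theorem isClosedImmersion_comp {A B C : Over S} (f : A ⟶ B) (e : B ≅ C) (h : IsClosedImmersion f.left) :
    IsClosedImmersion (f ≫ e.hom).left := by
  haveI := h
  haveI : IsIso e.hom.left := inferInstanceAs (IsIso ((Over.forget S).map e.hom))
  exact inferInstanceAs (IsClosedImmersion (f.left ≫ e.hom.left))

/-- A point of a torus piece moves to the torus piece of another chart. -/
theorem exists_move {G : Over S} [GrpObj G] {U U' : Scheme.{u}} (f : U ⟶ S) (f' : U' ⟶ S) {M M' : Type}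
    [AddCommGroup M] [AddCommGroup M'] [AddGroup.FG M']
    (j : Red.DS U (M ⧸ AddCommGroup.torsion M) ⟶ Red.bc f G) [IsMonHom j]
    (eG : Grp.mk (Red.bc f' G) ≅ Grp.mk (Red.DS U' M'))
    (j' : Red.DS U' (M' ⧸ AddCommGroup.torsion M') ⟶ Red.bc f' G) [IsMonHom j']
    (hj' : j' ≫ eG.hom.hom.hom = Red.DSmap U' (QuotientAddGroup.mk' (AddCommGroup.torsion M')))
    {T : Scheme.{u}} (a : T ⟶ U) (b : T ⟶ U') (h : a ≫ f = b ≫ f') (v : T ⟶ (Red.DS U (M ⧸ AddCommGroup.torsion M)).left)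
    (hv : v ≫ (Red.DS U (M ⧸ AddCommGroup.torsion M)).hom = a) :
    ∃ w : T ⟶ (Red.DS U' (M' ⧸ AddCommGroup.torsion M')).left,
      w ≫ (Red.DS U' (M' ⧸ AddCommGroup.torsion M')).hom = b ∧
      w ≫ j'.left ≫ pullback.fst G.hom f' = v ≫ j.left ≫ pullback.fst G.hom f := by
  let eR : Grp.mk (Red.bc a (Red.DS U (M ⧸ AddCommGroup.torsion M))) ≅ Grp.mk (Red.DS T (M ⧸ AddCommGroup.torsion M)) :=
    HomDesc.bcGrpIso a _ (Limits.IsTerminal.hom_ext specULiftZIsTerminal _ _)
      (Red.diag (ULift.{u} ℤ) (M ⧸ AddCommGroup.torsion M))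
  let eQ : Grp.mk (Red.bc b (Red.DS U' (M' ⧸ AddCommGroup.torsion M'))) ≅
      Grp.mk (Red.DS T (M' ⧸ AddCommGroup.torsion M')) :=
    HomDesc.bcGrpIso b _ (Limits.IsTerminal.hom_ext specULiftZIsTerminal _ _)
      (Red.diag (ULift.{u} ℤ) (M' ⧸ AddCommGroup.torsion M'))
  let u := (Over.pullback a).map j ≫ (ActBC.bcCompIso a f G rfl).hom
  let m := (Over.pullback b).map j' ≫ (ActBC.bcCompIso b f' G h.symm).hom
  haveI := HomDesc.isMonHom_bcCompIso a f rfl G
  have hu : IsMonHom u := inferInstance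
  have hm : m ≫ (chartBc b f' h.symm eG).hom.hom.hom =
      eQ.hom.hom.hom ≫ Red.DSmap T (QuotientAddGroup.mk' (AddCommGroup.torsion M')) := by
    show ((Over.pullback b).map j' ≫ (ActBC.bcCompIso b f' G h.symm).hom) ≫ (ActBC.bcCompIso b f' G h.symm).inv ≫
        (Over.pullback b).map eG.hom.hom.hom ≫ _ = _
    rw [Category.assoc, Iso.hom_inv_id_assoc, ← Category.assoc, ← Functor.map_comp]
    exact (congrArg (fun z => (Over.pullback b).map z ≫ _) hj').trans (bc_DSmap b _)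
  obtain ⟨k, hk⟩ := exists_factor_chart eR (chartBc b f' h.symm eG) eQ m hm u hu
  let s : Over.mk (𝟙 T) ⟶ Red.bc a (Red.DS U (M ⧸ AddCommGroup.torsion M)) :=
    Over.homMk (pullback.lift v (𝟙 T) (hv.trans (Category.id_comp a).symm)) (pullback.lift_snd _ _ _)
  refine ⟨(s ≫ k).left ≫ pullback.fst _ b, ?_, ?_⟩
  · rw [Category.assoc, pullback.condition, ← Category.assoc,
      show (s ≫ k).left ≫ pullback.snd _ b = 𝟙 T from Over.w (s ≫ k), Category.id_comp]
  · have e := congrArg (fun z => CommaMorphism.left (s ≫ z) ≫ pullback.fst G.hom (a ≫ f)) hk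
    simp only [m, u, Over.comp_left, Category.assoc] at e
    rw [ActBC.bcCompIso_hom_left_fst, ActBC.bcCompIso_hom_left_fst, ActBC.pullback_map_left_fst_assoc,
      ActBC.pullback_map_left_fst_assoc] at e
    rw [Over.comp_left]
    simp only [Category.assoc]
    refine e.trans ?_
    exact (pullback.lift_fst_assoc v (𝟙 T) _ _)

theorem exists_subgroup' {G : Over S} [GrpObj G] {J : Type u} {U : J → Scheme.{u}} (f : ∀ i, U i ⟶ S)
    (hf : Presieve.ofArrows U f ∈ Scheme.fpqcPrecoverage S) (H : ∀ i, Grp (Over (U i)))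
    (j : ∀ i, (H i).X ⟶ Red.bc (f i) G) (hjm : ∀ i, IsMonHom (j i)) (hj : ∀ i, IsClosedImmersion (j i).left)
    (hmove : ∀ {T : Scheme.{u}} {i k : J} (a : T ⟶ U i) (b : T ⟶ U k), a ≫ f i = b ≫ f k →
      ∀ v : T ⟶ (H i).X.left, v ≫ (H i).X.hom = a → ∃ w : T ⟶ (H k).X.left, w ≫ (H k).X.hom = b ∧
        w ≫ (j k).left ≫ pullback.fst G.hom (f k) = v ≫ (j i).left ≫ pullback.fst G.hom (f i)) :
    ∃ (K : Over S) (_ : GrpObj K) (m : K ⟶ G), IsMonHom m ∧ Mono m.left ∧
      ∀ i, ∃ e : Grp.mk (Red.bc (f i) K) ≅ H i, e.hom.hom.hom ≫ j i = (Over.pullback (f i)).map m :=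
  SubDesc.exists_subgroup f hf (fun i => (H i).X) j hjm hj hmove

theorem nonempty_torsionFree_iso (U : Scheme.{u}) (M : Type) [AddCommGroup M] [AddGroup.FG M] :
    ∃ r : ℕ, Red.IsSplitTorusWith (Fin r → ℤ) (Red.DS U (M ⧸ AddCommGroup.torsion M)) := by
  haveI : Module.Finite ℤ (M ⧸ AddCommGroup.torsion M) := Module.Finite.iff_addGroup_fg.2 inferInstance
  haveI : Module.IsTorsionFree ℤ (M ⧸ AddCommGroup.torsion M) := inferInstance
  haveI : Module.Free ℤ (M ⧸ AddCommGroup.torsion M) := inferInstance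
  exact ⟨_, nonempty_DS_iso U (Module.finBasis ℤ (M ⧸ AddCommGroup.torsion M)).equivFun.toAddEquiv⟩

/-- The maximal torus of a group of multiplicative type. -/
theorem exists_torusPart {G : Over S} [GrpObj G] (hG : SGA3x.IsMultTypeFT G) :
    ∃ (T : Over S) (_ : GrpObj T) (j : T ⟶ G), IsMonHom j ∧ Mono j.left ∧ Red.IsTorus T ∧ IsTorusPart j := by
  obtain ⟨S', π, hflat, hsurj, hcov, hloc⟩ := hG
  haveI := SubDesc.isFpqc_of_hcov π hcov
  choose U hU M iM hM he using hloc
  letI := iM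
  haveI := hM
  have eG := fun x => (he x).some
  have hf := SubDesc.mem_refine π U hU
  let Q : S' → Type := fun x => M x ⧸ AddCommGroup.torsion (M x)
  let e₀ : ∀ x, Red.bc ((U x).ι ≫ π) G ≅ Red.DS (U x).toScheme (M x) := fun x =>
    ⟨(eG x).hom.hom.hom, (eG x).inv.hom.hom, congrArg (fun f => f.hom.hom) (eG x).hom_inv_id,
      congrArg (fun f => f.hom.hom) (eG x).inv_hom_id⟩
  let j : ∀ x, Red.DS (U x).toScheme (Q x) ⟶ Red.bc ((U x).ι ≫ π) G := fun x =>
    Red.DSmap _ (QuotientAddGroup.mk' (AddCommGroup.torsion (M x))) ≫ (e₀ x).inv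
  have hjm : ∀ x, IsMonHom (j x) := fun x => by
    haveI := isMonHom_DSmap (U x).toScheme (QuotientAddGroup.mk' (AddCommGroup.torsion (M x)))
    haveI : IsMonHom (e₀ x).inv := (eG x).inv.hom.isMonHom_hom
    infer_instance
  have hj : ∀ x, IsClosedImmersion (j x).left := fun x =>
    isClosedImmersion_comp _ (e₀ x).symm (isClosedImmersion_DSmap _ _ (QuotientAddGroup.mk'_surjective _))
  have hjG : ∀ x, j x ≫ (eG x).hom.hom.hom = Red.DSmap _ (QuotientAddGroup.mk' (AddCommGroup.torsion (M x))) :=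
    fun x => (Category.assoc _ _ _).trans ((congrArg (_ ≫ ·) (e₀ x).inv_hom_id).trans (Category.comp_id _))
  obtain ⟨T, iT, m, hm, hmono, hφ⟩ := exists_subgroup' (fun x : S' => (U x).ι ≫ π) hf
    (fun x => Grp.mk (Red.DS (U x).toScheme (Q x))) j hjm hj fun {T i k} a b h v hv => by
      haveI := hjm i
      haveI := hjm k
      exact exists_move _ _ (j i) (eG k) (j k) (hjG k) a b h v hv
  choose e he' using hφ
  refine ⟨T, iT, m, hm, hmono, ⟨S', π, hflat, hsurj, hcov, fun x => ?_⟩, ⟨S', _, _, hf, fun x => ?_⟩⟩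
  · obtain ⟨r, ⟨er⟩⟩ := nonempty_torsionFree_iso (U x).toScheme (M x)
    exact ⟨U x, hU x, r, ⟨e x ≪≫ er⟩⟩
  · refine ⟨M x, iM x, hM x, eG x, e x, ?_⟩
    rw [← he' x, Category.assoc, hjG]

end Groth.Agent.MaxTorus
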