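import Groth.Agent.MaxTorus.Image
/-!
The greatest split subtorus over a connected base.
-/

set_option autoImplicit false
set_option backward.isDefEq.respectTransparency false
set_option backward.isDefEq.respectTransparency.types false
set_option linter.style.haveILetI false
set_option linter.unusedSectionVars false

universe u

open CategoryTheory CategoryTheory.Limits MonoidalCategory CartesianMonoidalCategory MonObj AlgebraicGeometry

noncomputable section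

namespace Groth.Agent.MaxTorus

open FixedSmooth HomTriv DSMapLib QuotTorus

variable {S : Scheme.{u}} {G : Over S} [GrpObj G]

theorem isMonHom_mul {X : Over S} [GrpObj X] (hc : ∀ (Y : Over S) (a b : Y ⟶ G), a * b = b * a) (f f' : X ⟶ G)
    (hf : IsMonHom f) (hf' : IsMonHom f') : IsMonHom (f * f') := by
  haveI := hf; haveI := hf'
  constructor
  · rw [MonObj.one_eq_one, MonObj.one_eq_one, MonObj.comp_mul, MonObj.one_comp, MonObj.one_comp, _root_.one_mul]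
  · rw [MonObj.mul_eq_mul, MonObj.mul_eq_mul, MonObj.comp_mul, MonObj.comp_mul, MonObj.mul_comp, MonObj.mul_comp,
      tensorHom_fst, tensorHom_snd, MonObj.comp_mul, MonObj.comp_mul, _root_.mul_assoc, _root_.mul_assoc]
    congr 1
    rw [← _root_.mul_assoc, ← _root_.mul_assoc, hc _ (snd X X ≫ f)]

theorem section_comp {A B P : Over S} [GrpObj A] [GrpObj B] [GrpObj P] {p : P ⟶ A} {p' : P ⟶ B} {s : A ⟶ P}
    (h₁ : s ≫ p = 𝟙 A) (h₂ : s ≫ p' = 1) (j : A ⟶ G) (j' : B ⟶ G) [IsMonHom j'] :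
    s ≫ ((p ≫ j) * (p' ≫ j')) = j := by
  rw [MonObj.comp_mul, ← Category.assoc, ← Category.assoc, h₁, h₂, Category.id_comp, MonObj.one_comp, _root_.mul_one]

theorem section_comp' {A B P : Over S} [GrpObj A] [GrpObj B] [GrpObj P] {p : P ⟶ A} {p' : P ⟶ B} {s : B ⟶ P}
    (h₁ : s ≫ p = 1) (h₂ : s ≫ p' = 𝟙 B) (j : A ⟶ G) [IsMonHom j] (j' : B ⟶ G) :
    s ≫ ((p ≫ j) * (p' ≫ j')) = j' := by
  rw [MonObj.comp_mul, ← Category.assoc, ← Category.assoc, h₁, h₂, Category.id_comp, MonObj.one_comp, _root_.one_mul]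

theorem exists_pair (hc : ∀ (Y : Over S) (a b : Y ⟶ G), a * b = b * a) {A B P : Over S} [GrpObj A] [GrpObj B] [GrpObj P]
    {p : P ⟶ A} {p' : P ⟶ B} (hp : IsMonHom p) (hp' : IsMonHom p') {s : A ⟶ P} {s' : B ⟶ P} (h₁ : s ≫ p = 𝟙 A)
    (h₂ : s ≫ p' = 1) (h₁' : s' ≫ p = 1) (h₂' : s' ≫ p' = 𝟙 B) (j : A ⟶ G) (hj : IsMonHom j) (j' : B ⟶ G)
    (hj' : IsMonHom j') : ∃ w : P ⟶ G, IsMonHom w ∧ s ≫ w = j ∧ s' ≫ w = j' := by
  haveI := hp; haveI := hp'; haveI := hj; haveI := hj'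
  exact ⟨(p ≫ j) * (p' ≫ j'), isMonHom_mul hc _ _ inferInstance inferInstance, section_comp h₁ h₂ j j',
    section_comp' h₁' h₂' j j'⟩

theorem DSmap_id (S : Scheme.{u}) (M : Type) [AddCommGroup M] : Red.DSmap S (AddMonoidHom.id M) = 𝟙 (Red.DS S M) :=
  hom_ext_affine _ _ fun D q w => by
    obtain ⟨χ, rfl⟩ := (dsPt M q).surjective w
    rw [dsPt_comp, Category.comp_id]
    rfl

theorem DSmap_comp (S : Scheme.{u}) {L M N : Type} [AddCommGroup L] [AddCommGroup M] [AddCommGroup N] (f : L →+ M) (g : M →+ N) :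
    Red.DSmap S g ≫ Red.DSmap S f = Red.DSmap S (g.comp f) :=
  hom_ext_affine _ _ fun D q w => by
    obtain ⟨χ, rfl⟩ := (dsPt N q).surjective w
    rw [← Category.assoc, dsPt_comp, dsPt_comp, dsPt_comp]
    rfl

theorem exists_pair_DS (hc : ∀ (Y : Over S) (a b : Y ⟶ G), a * b = b * a) (A B : Type) [AddCommGroup A] [AddCommGroup B]
    (f : Red.DS S A ⟶ G) (hf : IsMonHom f) (f' : Red.DS S B ⟶ G) (hf' : IsMonHom f') :
    ∃ w : Red.DS S (A × B) ⟶ G, IsMonHom w ∧ Red.DSmap S (AddMonoidHom.fst A B) ≫ w = f ∧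
      Red.DSmap S (AddMonoidHom.snd A B) ≫ w = f' := by
  have e1 := @exists_pair S G _ hc (Red.DS S A) (Red.DS S B) (Red.DS S (A × B)) _ _ _
  have e2 := @e1 (Red.DSmap S (AddMonoidHom.inl A B)) (Red.DSmap S (AddMonoidHom.inr A B))
  have e4 := @e2 (isMonHom_DSmap S _) (isMonHom_DSmap S _) (Red.DSmap S (AddMonoidHom.fst A B))
    (Red.DSmap S (AddMonoidHom.snd A B))
  refine e4 ?_ ?_ ?_ ?_ f hf f' hf'
  · rw [DSmap_comp, show (AddMonoidHom.fst A B).comp (AddMonoidHom.inl A B) = AddMonoidHom.id A from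
      AddMonoidHom.ext fun _ => rfl, DSmap_id]
  · exact comp_eq_one _ _ (AddMonoidHom.ext fun _ => rfl)
  · exact comp_eq_one _ _ (AddMonoidHom.ext fun _ => rfl)
  · rw [DSmap_comp, show (AddMonoidHom.snd A B).comp (AddMonoidHom.inr A B) = AddMonoidHom.id B from
      AddMonoidHom.ext fun _ => rfl, DSmap_id]

/-- The greatest split subtorus over a connected base. -/
theorem exists_greatest_split [ConnectedSpace S] (hG : SGA3x.IsMultTypeFT G) :
    ∃ (T : Over S) (_ : GrpObj T) (j : T ⟶ G) (r : ℕ), IsMonHom j ∧ Mono j ∧ Red.IsSplitTorusWith (Fin r → ℤ) T ∧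
      ∀ (T' : Over S) [GrpObj T'] (j' : T' ⟶ G) [IsMonHom j'] [Mono j'] (r' : ℕ),
        Red.IsSplitTorusWith (Fin r' → ℤ) T' → ∃ g : T' ⟶ T, g ≫ j = j' := by
  obtain ⟨T, _, j, r, hj, hj', hT, hmax⟩ := exists_max_split hG
  refine ⟨T, _, j, r, hj, hj', hT, fun T' _ j' _ _ r' hT' => ?_⟩
  haveI := hj; haveI := hj'
  have hT2 := hT
  obtain ⟨e⟩ := hT2
  obtain ⟨e'⟩ := hT'
  let b : T ⟶ Red.DS S (Fin r → ℤ) := e.hom.hom.hom
  let a : Red.DS S (Fin r → ℤ) ⟶ T := e.inv.hom.hom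
  let a' : Red.DS S (Fin r' → ℤ) ⟶ T' := e'.inv.hom.hom
  let b' : T' ⟶ Red.DS S (Fin r' → ℤ) := e'.hom.hom.hom
  haveI : IsMonHom a := e.inv.hom.isMonHom_hom
  haveI : IsMonHom a' := e'.inv.hom.isMonHom_hom
  haveI : IsMonHom b := e.hom.hom.isMonHom_hom
  haveI : IsMonHom b' := e'.hom.hom.isMonHom_hom
  let pl := AddMonoidHom.fst (Fin r → ℤ) (Fin r' → ℤ)
  let pr := AddMonoidHom.snd (Fin r → ℤ) (Fin r' → ℤ)
  haveI := isMonHom_DSmap S pl
  haveI := isMonHom_DSmap S pr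
  have hc : ∀ (Y : Over S) (x y : Y ⟶ G), x * y = y * x := fun Y x y =>
    MultKer.points_comm (hasSplitCoversFG_of_isMultTypeFT hG).hasSplitCovers x y
  obtain ⟨w, hw, hwl, hwr⟩ := exists_pair_DS hc (Fin r → ℤ) (Fin r' → ℤ) (a ≫ j) inferInstance (a' ≫ j') inferInstance
  haveI := hw
  obtain ⟨N₀, g, hg, hgmono, hgw⟩ := exists_image hG w
  haveI := hg; haveI := hgmono
  let NM : Submodule ℤ ((Fin r → ℤ) × (Fin r' → ℤ)) := AddSubgroup.toIntSubmodule N₀
  let bs := Module.finBasis ℤ NM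
  have hD : Red.IsSplitTorusWith (Fin (Module.finrank ℤ NM) → ℤ) (Red.DS S N₀) :=
    nonempty_DS_iso S ((show N₀ ≃+ NM from AddEquiv.refl _).trans bs.equivFun.toAddEquiv)
  let h : T ⟶ Red.DS S N₀ := b ≫ Red.DSmap S pl ≫ Red.DSmap S N₀.subtype
  have hh : h ≫ g = j := by
    simp only [h, Category.assoc, hgw]
    rw [hwl, ← Category.assoc,
      show b ≫ a = 𝟙 T from congrArg (fun f => f.hom.hom) e.hom_inv_id, Category.id_comp]
  haveI : IsIso h := isIso_of_le j hT g hD h hh fun hS => hmax (Red.DS S N₀) g _ hD hS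
  refine ⟨b' ≫ Red.DSmap S pr ≫ Red.DSmap S N₀.subtype ≫ inv h, ?_⟩
  have e1 : inv h ≫ j = g := by rw [IsIso.inv_comp_eq, hh]
  simp only [Category.assoc, e1, hgw]
  rw [hwr, ← Category.assoc,
    show b' ≫ a' = 𝟙 T' from congrArg (fun f => f.hom.hom) e'.hom_inv_id, Category.id_comp]

end Groth.Agent.MaxTorus
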