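import Groth.Agent.MaxTorus.ImageLocal
import Groth.Agent.MaxTorus.Greatest
import Groth.Agent.SubDesc.Family
/-!
Two locally split subtori lie in a third one.
-/

set_option autoImplicit false
set_option backward.isDefEq.respectTransparency false
set_option backward.isDefEq.respectTransparency.types false
set_option linter.style.haveILetI false
set_option linter.unusedSectionVars false

universe u

open CategoryTheory CategoryTheory.Limits MonoidalCategory CartesianMonoidalCategory MonObj AlgebraicGeometry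

noncomputable section

namespace Groth.Agent.MaxTorus

open FixedSmooth HomTriv DSMapLib QuotTorus

variable {S : Scheme.{u}}

/-- Zariski locally a split torus. -/
def IsLocSplit (E : Over S) [GrpObj E] : Prop :=
  ∀ s : S, ∃ U : S.Opens, s ∈ U ∧ ∃ r : ℕ, Red.IsSplitTorusWith (Fin r → ℤ) (Red.bc U.ι E)

variable {G E₁ E₂ : Over S} [GrpObj G] [GrpObj E₁] [GrpObj E₂] (j₁ : E₁ ⟶ G) (j₂ : E₂ ⟶ G)

/-- A split torus over `V` which is the image of the two subtori. -/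
structure Piece {V : Scheme.{u}} (f : V ⟶ S) where
  H : Grp (Over V)
  R : Grp (Over V)
  q : R.X ⟶ H.X
  j : H.X ⟶ Red.bc f G
  p₁ : R.X ⟶ Red.bc f E₁
  p₂ : R.X ⟶ Red.bc f E₂
  k₁ : Red.bc f E₁ ⟶ H.X
  k₂ : Red.bc f E₂ ⟶ H.X
  fpqc : SchDesc.IsFpqc q.left
  hom : IsMonHom j
  closed : IsClosedImmersion j.left
  split : ∃ r, Red.IsSplitTorusWith (Fin r → ℤ) H.X
  eq : q ≫ j = (p₁ ≫ (Over.pullback f).map j₁) * (p₂ ≫ (Over.pullback f).map j₂)
  eq₁ : k₁ ≫ j = (Over.pullback f).map j₁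
  eq₂ : k₂ ≫ j = (Over.pullback f).map j₂

variable {j₁ j₂}

theorem comp_bc {U V : Scheme.{u}} (v : V ⟶ U) (f : U ⟶ S) {d : V ⟶ S} (h : v ≫ f = d) {X Y : Over S} [GrpObj Y] (k : X ⟶ Y)
    {P : Over U} (a : P ⟶ Red.bc f X) :
    ((Over.pullback v).map a ≫ (ActBC.bcCompIso v f X h).hom) ≫ (Over.pullback d).map k =
      (Over.pullback v).map (a ≫ (Over.pullback f).map k) ≫ (ActBC.bcCompIso v f Y h).hom := by
  rw [Functor.map_comp, Category.assoc, Category.assoc, ActBC.bcCompIso_hom_naturality]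

theorem nonempty_piece {U V : Scheme.{u}} (v : V ⟶ U) (f : U ⟶ S) {d : V ⟶ S} (h : v ≫ f = d) (P : Grp (Over U))
    (a₁ : P.X ⟶ Red.bc f E₁) (a₂ : P.X ⟶ Red.bc f E₂) (s₁ : Red.bc f E₁ ⟶ P.X) (s₂ : Red.bc f E₂ ⟶ P.X)
    (w : P.X ⟶ Red.bc f G) (hw : w = (a₁ ≫ (Over.pullback f).map j₁) * (a₂ ≫ (Over.pullback f).map j₂))
    (hs₁ : s₁ ≫ w = (Over.pullback f).map j₁) (hs₂ : s₂ ≫ w = (Over.pullback f).map j₂) (H : Grp (Over V))
    (q : Red.bc v P.X ⟶ H.X) (hq : SchDesc.IsFpqc q.left) (g : H.X ⟶ Red.bc v (Red.bc f G)) (hg : IsMonHom g)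
    (hgc : IsClosedImmersion g.left) (hsplit : ∃ r, Red.IsSplitTorusWith (Fin r → ℤ) H.X)
    (hqg : q ≫ g = (Over.pullback v).map w) : Nonempty (Piece j₁ j₂ d) := by
  haveI := HomDesc.isMonHom_bcCompIso v f h G
  haveI := hg
  refine ⟨⟨H, Grp.mk (Red.bc v P.X), q, g ≫ (ActBC.bcCompIso v f G h).hom,
    (Over.pullback v).map a₁ ≫ (ActBC.bcCompIso v f E₁ h).hom, (Over.pullback v).map a₂ ≫ (ActBC.bcCompIso v f E₂ h).hom,
    (ActBC.bcCompIso v f E₁ h).inv ≫ (Over.pullback v).map s₁ ≫ q,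
    (ActBC.bcCompIso v f E₂ h).inv ≫ (Over.pullback v).map s₂ ≫ q, hq, inferInstance,
    ?_, hsplit, ?_, ?_, ?_⟩⟩
  · haveI := hgc
    haveI : IsIso (ActBC.bcCompIso v f G h).hom.left :=
      inferInstanceAs (IsIso ((Over.forget V).mapIso (ActBC.bcCompIso v f G h)).hom)
    exact inferInstanceAs (IsClosedImmersion (g.left ≫ _))
  · rw [reassoc_of% hqg, comp_bc v f h j₁ a₁, comp_bc v f h j₂ a₂, hw, Functor.map_mul, MonObj.mul_comp]
  · simp only [Category.assoc]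
    rw [reassoc_of% hqg, ← Functor.map_comp_assoc, hs₁, ActBC.bcCompIso_hom_naturality, Iso.inv_hom_id_assoc]
  · simp only [Category.assoc]
    rw [reassoc_of% hqg, ← Functor.map_comp_assoc, hs₂, ActBC.bcCompIso_hom_naturality, Iso.inv_hom_id_assoc]

/-- The identity of `D(A × B)` as a pair. -/
theorem exists_pair_DS' {U : Scheme.{u}} {X E E' : Over U} [GrpObj X] [GrpObj E] [GrpObj E']
    (hc : ∀ (Y : Over U) (x y : Y ⟶ X), x * y = y * x) (A B : Type) [AddCommGroup A] [AddCommGroup B]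
    (e : Grp.mk E ≅ Grp.mk (Red.DS U A)) (e' : Grp.mk E' ≅ Grp.mk (Red.DS U B))
    (m : E ⟶ X) (hm : IsMonHom m) (m' : E' ⟶ X) (hm' : IsMonHom m') :
    ∃ (a : Red.DS U (A × B) ⟶ E) (a' : Red.DS U (A × B) ⟶ E') (s : E ⟶ Red.DS U (A × B)) (s' : E' ⟶ Red.DS U (A × B))
      (w : Red.DS U (A × B) ⟶ X), IsMonHom w ∧ w = (a ≫ m) * (a' ≫ m') ∧ s ≫ w = m ∧ s' ≫ w = m' := by
  haveI := hm
  haveI := hm'
  haveI : IsMonHom e.inv.hom.hom := e.inv.hom.isMonHom_hom
  haveI : IsMonHom e'.inv.hom.hom := e'.inv.hom.isMonHom_hom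
  haveI := isMonHom_DSmap U (AddMonoidHom.inl A B)
  haveI := isMonHom_DSmap U (AddMonoidHom.inr A B)
  let p := Red.DSmap U (AddMonoidHom.inl A B)
  let p' := Red.DSmap U (AddMonoidHom.inr A B)
  have h1 : IsMonHom (p ≫ e.inv.hom.hom) := inferInstance
  have h2 : IsMonHom (p' ≫ e'.inv.hom.hom) := inferInstance
  have he : e.hom.hom.hom ≫ e.inv.hom.hom = 𝟙 _ := congrArg (fun f => f.hom.hom) e.hom_inv_id
  have he' : e'.hom.hom.hom ≫ e'.inv.hom.hom = 𝟙 _ := congrArg (fun f => f.hom.hom) e'.hom_inv_id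
  haveI : IsMonHom e.hom.hom.hom := e.hom.hom.isMonHom_hom
  haveI : IsMonHom e'.hom.hom.hom := e'.hom.hom.isMonHom_hom
  refine ⟨p ≫ e.inv.hom.hom, p' ≫ e'.inv.hom.hom, e.hom.hom.hom ≫ Red.DSmap U (AddMonoidHom.fst A B),
    e'.hom.hom.hom ≫ Red.DSmap U (AddMonoidHom.snd A B), _, ?_, rfl, ?_, ?_⟩
  · exact @isMonHom_mul U X _ (Red.DS U (A × B)) _ hc ((p ≫ e.inv.hom.hom) ≫ m) ((p' ≫ e'.inv.hom.hom) ≫ m')
      inferInstance inferInstance
  · refine @section_comp U X _ E E' (Red.DS U (A × B)) _ _ _ (p ≫ e.inv.hom.hom) (p' ≫ e'.inv.hom.hom) _ ?_ ?_ m m' _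
    · simp only [p, Category.assoc]
      rw [← Category.assoc (Red.DSmap U _), DSmap_comp, show (AddMonoidHom.fst A B).comp (AddMonoidHom.inl A B) =
        AddMonoidHom.id A from AddMonoidHom.ext fun _ => rfl, DSmap_id, Category.id_comp, he]
    · simp only [p', Category.assoc]
      rw [← Category.assoc (Red.DSmap U _), comp_eq_one _ _ (show (AddMonoidHom.fst A B).comp (AddMonoidHom.inr A B) = 0
        from AddMonoidHom.ext fun _ => rfl), MonObj.one_comp, MonObj.comp_one]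
  · refine @section_comp' U X _ E E' (Red.DS U (A × B)) _ _ _ (p ≫ e.inv.hom.hom) (p' ≫ e'.inv.hom.hom) _ ?_ ?_ m _ m'
    · simp only [p, Category.assoc]
      rw [← Category.assoc (Red.DSmap U _), comp_eq_one _ _ (show (AddMonoidHom.snd A B).comp (AddMonoidHom.inl A B) = 0
        from AddMonoidHom.ext fun _ => rfl), MonObj.one_comp, MonObj.comp_one]
    · simp only [p', Category.assoc]
      rw [← Category.assoc (Red.DSmap U _), DSmap_comp, show (AddMonoidHom.snd A B).comp (AddMonoidHom.inr A B) =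
        AddMonoidHom.id B from AddMonoidHom.ext fun _ => rfl, DSmap_id, Category.id_comp, he']

theorem isFpqc_comp_iso {A B C : Over S} (e : A ≅ B) (f : B ⟶ C) (h : SchDesc.IsFpqc f.left) :
    SchDesc.IsFpqc (e.hom ≫ f).left := by
  haveI := h
  haveI : IsIso e.hom.left := inferInstanceAs (IsIso ((Over.forget S).mapIso e).hom)
  exact SchDesc.IsFpqc.of_isPullback
    (show IsPullback e.hom.left (e.hom ≫ f).left f.left (𝟙 C.left) from
      IsPullback.of_horiz_isIso ⟨(Category.comp_id _).symm⟩)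

variable (j₁ j₂) [IsMonHom j₁] [IsMonHom j₂]

theorem exists_piece (hG : SGA3x.IsMultTypeFT G) (h₁ : IsLocSplit E₁) (h₂ : IsLocSplit E₂) (s : S) :
    ∃ W : S.Opens, s ∈ W ∧ Nonempty (Piece j₁ j₂ W.ι) := by
  obtain ⟨U₁, hs₁, r₁, hr₁⟩ := h₁ s
  obtain ⟨U₂, hs₂, r₂, hr₂⟩ := h₂ s
  let U := U₁ ⊓ U₂
  obtain ⟨e₁⟩ := isSplit_of_comp (S.homOfLE inf_le_left) U₁.ι (Scheme.homOfLE_ι S inf_le_left : _ = U.ι) hr₁
  obtain ⟨e₂⟩ := isSplit_of_comp (S.homOfLE inf_le_right) U₂.ι (Scheme.homOfLE_ι S inf_le_right : _ = U.ι) hr₂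
  have hGU : SGA3x.IsMultTypeFT (Red.bc U.ι G) := HomDesc.isMultTypeFT_bc U.ι hG
  obtain ⟨a, a', σ, σ', w, hw, hwe, hσ, hσ'⟩ := exists_pair_DS' (fun Y x y =>
    MultKer.points_comm (hasSplitCoversFG_of_isMultTypeFT hGU).hasSplitCovers x y) (Fin r₁ → ℤ) (Fin r₂ → ℤ)
    e₁ e₂ ((Over.pullback U.ι).map j₁) inferInstance ((Over.pullback U.ι).map j₂) inferInstance
  haveI : IsAffineHom (Red.bc U.ι G).hom :=
    isAffineHom_of_isMultTypeLoc (WeilClosedLib.IsMultTypeLoc.of_isMultTypeFT hGU)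
  haveI : LocallyOfFiniteType (Red.bc U.ι G).hom := MonoFibre.locallyOfFiniteType_of_isMultTypeFT _ hGU
  haveI := hw
  obtain ⟨V, N₀, g, hsV, hg, hgm, hgw⟩ := exists_image_nhd w ⟨s, hs₁, hs₂⟩
  let W : S.Opens := U.ι ''ᵁ V
  let v : W.toScheme ⟶ V.toScheme := (U.ι.isoImage V).inv
  have hv : v ≫ V.ι ≫ U.ι = W.ι := by
    rw [← Scheme.Hom.isoImage_hom_ι, Iso.inv_hom_id_assoc]
  refine ⟨W, ⟨_, hsV, rfl⟩, ?_⟩
  have hgc : IsClosedImmersion g.left := by
    haveI : Module.Finite ℤ ((Fin r₁ → ℤ) × (Fin r₂ → ℤ)) := inferInstance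
    haveI : AddGroup.FG N₀ := Module.Finite.iff_addGroup_fg.1 (inferInstanceAs
      (Module.Finite ℤ (AddSubgroup.toIntSubmodule N₀)))
    exact isClosedImmersion_of_mono_DS (HomDesc.isMultTypeFT_bc V.ι hGU) g hg hgm
  let NM : Submodule ℤ ((Fin r₁ → ℤ) × (Fin r₂ → ℤ)) := AddSubgroup.toIntSubmodule N₀
  have hsp : Red.IsSplitTorusWith (Fin (Module.finrank ℤ NM) → ℤ) (Red.DS V.toScheme N₀) :=
    nonempty_DS_iso V.toScheme ((show N₀ ≃+ NM from AddEquiv.refl _).trans (Module.finBasis ℤ NM).equivFun.toAddEquiv)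
  let e := dsBc V.ι ((Fin r₁ → ℤ) × (Fin r₂ → ℤ))
  have he := congrArg (fun f => f.hom.hom) e.hom_inv_id
  have he' := congrArg (fun f => f.hom.hom) e.inv_hom_id
  let e₀ : Red.bc V.ι (Red.DS U.toScheme ((Fin r₁ → ℤ) × (Fin r₂ → ℤ))) ≅
      Red.DS V.toScheme ((Fin r₁ → ℤ) × (Fin r₂ → ℤ)) := ⟨e.hom.hom.hom, e.inv.hom.hom, he, he'⟩
  obtain ⟨P⟩ := nonempty_piece V.ι U.ι (d := V.ι ≫ U.ι) rfl (Grp.mk (Red.DS U.toScheme ((Fin r₁ → ℤ) × (Fin r₂ → ℤ))))
    a a' σ σ' w hwe hσ hσ' (Grp.mk (Red.DS V.toScheme N₀))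
    (e₀.hom ≫ Red.DSmap V.toScheme N₀.subtype) (isFpqc_comp_iso e₀ _ (isFpqc_DSmap _ _ N₀.subtype_injective))
    g hg hgc ⟨_, hsp⟩ ((Category.assoc _ _ _).trans hgw)
  -- transport along `v`
  haveI := P.hom
  haveI := HomDesc.isMonHom_bcCompIso v (V.ι ≫ U.ι) hv G
  haveI : IsIso v := inferInstance
  let c : ∀ X : Over S, Red.bc v (Red.bc (V.ι ≫ U.ι) X) ≅ Red.bc W.ι X := fun X => ActBC.bcCompIso v _ X hv
  have hc : ∀ {X : Over S} (k : X ⟶ G),
      (Over.pullback v).map ((Over.pullback (V.ι ≫ U.ι)).map k) ≫ (c G).hom =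
        (c X).hom ≫ (Over.pullback W.ι).map k := fun k => ActBC.bcCompIso_hom_naturality v _ hv k
  refine ⟨⟨Grp.mk (Red.bc v P.H.X), Grp.mk (Red.bc v P.R.X), (Over.pullback v).map P.q,
    (Over.pullback v).map P.j ≫ (c G).hom, (Over.pullback v).map P.p₁ ≫ (c E₁).hom,
    (Over.pullback v).map P.p₂ ≫ (c E₂).hom, (c E₁).inv ≫ (Over.pullback v).map P.k₁,
    (c E₂).inv ≫ (Over.pullback v).map P.k₂, ?_, inferInstance, ?_, ?_, ?_, ?_, ?_⟩⟩
  · haveI := P.fpqc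
    exact SchDesc.IsFpqc.of_isPullback (isPullback_bc v P.q)
  · haveI := P.closed
    haveI : IsIso (c G).hom.left := inferInstanceAs (IsIso ((Over.forget _).mapIso (c G)).hom)
    haveI : IsClosedImmersion ((Over.pullback v).map P.j).left :=
      MorphismProperty.of_isPullback (P := @IsClosedImmersion) (isPullback_bc v P.j) ‹_›
    exact inferInstanceAs (IsClosedImmersion (_ ≫ (c G).hom.left))
  · obtain ⟨r, ⟨er⟩⟩ := P.split
    exact ⟨r, ⟨(Over.pullback v).mapGrp.mapIso er ≪≫ dsBc v (Fin r → ℤ)⟩⟩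
  · rw [← Category.assoc, ← Functor.map_comp, P.eq, Functor.map_mul, MonObj.mul_comp, Functor.map_comp,
      Functor.map_comp]
    simp only [Category.assoc, hc]
  · rw [Category.assoc, ← Category.assoc ((Over.pullback v).map P.k₁), ← Functor.map_comp, P.eq₁, hc,
      Iso.inv_hom_id_assoc]
  · rw [Category.assoc, ← Category.assoc ((Over.pullback v).map P.k₂), ← Functor.map_comp, P.eq₂, hc,
      Iso.inv_hom_id_assoc]

variable {j₁ j₂}

/-- Points of a piece move to another piece. -/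
theorem Piece.move {U U' : Scheme.{u}} {f : U ⟶ S} {f' : U' ⟶ S} (P : Piece j₁ j₂ f) (P' : Piece j₁ j₂ f')
    {T : Scheme.{u}} (a : T ⟶ U) (b : T ⟶ U') (h : a ≫ f = b ≫ f') (v : T ⟶ P.H.X.left) (hv : v ≫ P.H.X.hom = a) :
    ∃ w : T ⟶ P'.H.X.left, w ≫ P'.H.X.hom = b ∧
      w ≫ P'.j.left ≫ pullback.fst G.hom f' = v ≫ P.j.left ≫ pullback.fst G.hom f := by
  haveI := P.hom
  haveI := P'.hom
  haveI := HomDesc.isMonHom_bcCompIso a f rfl G
  haveI := HomDesc.isMonHom_bcCompIso b f' h.symm G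
  let q := (Over.pullback a).map P.q
  let u := (Over.pullback a).map P.j ≫ (ActBC.bcCompIso a f G rfl).hom
  let m := (Over.pullback b).map P'.j ≫ (ActBC.bcCompIso b f' G h.symm).hom
  haveI : Mono P'.j.left := by haveI := P'.closed; infer_instance
  haveI : Mono P'.j := Over.mono_of_mono_left _
  haveI : Mono ((Over.pullback b).map P'.j) := Functor.map_mono _ _
  haveI : Mono m := inferInstance
  haveI : IsMonHom m := inferInstance
  haveI : SchDesc.IsFpqc q.left := by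
    haveI := P.fpqc
    exact SchDesc.IsFpqc.of_isPullback (isPullback_bc a P.q)
  let h₁ := (ActBC.bcCompIso b f' E₁ h.symm).inv ≫ (Over.pullback b).map P'.k₁
  let h₂ := (ActBC.bcCompIso b f' E₂ h.symm).inv ≫ (Over.pullback b).map P'.k₂
  have hh₁ : h₁ ≫ m = (Over.pullback (a ≫ f)).map j₁ := by
    simp only [h₁, m, Category.assoc]
    rw [← Functor.map_comp_assoc, P'.eq₁, ActBC.bcCompIso_hom_naturality, Iso.inv_hom_id_assoc]
  have hh₂ : h₂ ≫ m = (Over.pullback (a ≫ f)).map j₂ := by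
    simp only [h₂, m, Category.assoc]
    rw [← Functor.map_comp_assoc, P'.eq₂, ActBC.bcCompIso_hom_naturality, Iso.inv_hom_id_assoc]
  let α := ((Over.pullback a).map P.p₁ ≫ (ActBC.bcCompIso a f E₁ rfl).hom ≫ h₁) *
    ((Over.pullback a).map P.p₂ ≫ (ActBC.bcCompIso a f E₂ rfl).hom ≫ h₂)
  have hα : q ≫ u = α ≫ m := by
    simp only [q, u, α]
    rw [← Functor.map_comp_assoc, P.eq, Functor.map_mul, MonObj.mul_comp, MonObj.mul_comp, Functor.map_comp,
      Functor.map_comp]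
    simp only [Category.assoc, hh₁, hh₂, ActBC.bcCompIso_hom_naturality]
  obtain ⟨k, hk⟩ := GrpQuotLib.exists_desc q α fun X x y e => by
    rw [← cancel_mono m, Category.assoc, Category.assoc, ← hα, reassoc_of% e]
  haveI : Epi q := GrpQuotLib.epi_of_isFpqc _
  have hkm : k ≫ m = u := (cancel_epi q).1 (by rw [reassoc_of% hk, hα])
  let s : Over.mk (𝟙 T) ⟶ Red.bc a P.H.X :=
    Over.homMk (pullback.lift v (𝟙 T) (hv.trans (Category.id_comp a).symm)) (pullback.lift_snd _ _ _)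
  refine ⟨(s ≫ k).left ≫ pullback.fst _ b, ?_, ?_⟩
  · rw [Category.assoc, pullback.condition, ← Category.assoc,
      show (s ≫ k).left ≫ pullback.snd _ b = 𝟙 T from Over.w (s ≫ k), Category.id_comp]
  · have e := congrArg (fun z => CommaMorphism.left (s ≫ z) ≫ pullback.fst G.hom (a ≫ f)) hkm
    simp only [m, u, Over.comp_left, Category.assoc] at e
    rw [ActBC.bcCompIso_hom_left_fst, ActBC.bcCompIso_hom_left_fst, ActBC.pullback_map_left_fst_assoc,
      ActBC.pullback_map_left_fst_assoc] at e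
    rw [Over.comp_left]
    simp only [Category.assoc]
    refine e.trans ?_
    exact (pullback.lift_fst_assoc v (𝟙 T) _ _)

variable (j₁ j₂)

/-- Two locally split subtori of a group of multiplicative type lie in a third one. -/
theorem exists_sup (hG : SGA3x.IsMultTypeFT G) (h₁ : IsLocSplit E₁) (h₂ : IsLocSplit E₂) :
    ∃ (E₃ : Over S) (_ : GrpObj E₃) (j₃ : E₃ ⟶ G) (g₁ : E₁ ⟶ E₃) (g₂ : E₂ ⟶ E₃), IsMonHom j₃ ∧ Mono j₃ ∧
      IsLocSplit E₃ ∧ g₁ ≫ j₃ = j₁ ∧ g₂ ≫ j₃ = j₂ := by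
  choose W hW P using exists_piece j₁ j₂ hG h₁ h₂
  have P := fun s => (P s).some
  have hf := SubDesc.mem_zariski W hW
  obtain ⟨E₃, iE, m, hm, hmono, he⟩ := SubDesc.exists_subgroup (fun s : S => (W s).ι) hf (fun s => (P s).H.X)
    (fun s => (P s).j) (fun s => (P s).hom) (fun s => (P s).closed) (fun a b h v hv => (P _).move (P _) a b h v hv)
  choose e he using he
  haveI := hm
  haveI : Mono m := Over.mono_of_mono_left m
  have hinv : ∀ s, (e s).inv.hom.hom ≫ (Over.pullback (W s).ι).map m = (P s).j := fun s => by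
    rw [← he s, ← Category.assoc, show (e s).inv.hom.hom ≫ (e s).hom.hom.hom = 𝟙 _ from
      congrArg (fun f => f.hom.hom) (e s).inv_hom_id, Category.id_comp]
  obtain ⟨g₁, hg₁⟩ := SubDesc.exists_factor_fam _ hf m j₁ fun s =>
    ⟨(P s).k₁ ≫ (e s).inv.hom.hom, by rw [Category.assoc, hinv, (P s).eq₁]⟩
  obtain ⟨g₂, hg₂⟩ := SubDesc.exists_factor_fam _ hf m j₂ fun s =>
    ⟨(P s).k₂ ≫ (e s).inv.hom.hom, by rw [Category.assoc, hinv, (P s).eq₂]⟩
  refine ⟨E₃, iE, m, g₁, g₂, hm, inferInstance, fun s => ?_, hg₁, hg₂⟩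
  obtain ⟨r, ⟨er⟩⟩ := (P s).split
  exact ⟨W s, hW s, r, ⟨e s ≪≫ er⟩⟩

end Groth.Agent.MaxTorus
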