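import Groth.Agent.QuotTorus.Main
import Groth.Agent.SplitHom.SameRank
/-!
Split tori inside groups of multiplicative type.
-/

set_option autoImplicit false
set_option backward.isDefEq.respectTransparency false
set_option backward.isDefEq.respectTransparency.types false
set_option linter.style.haveILetI false
set_option linter.unusedSectionVars false

universe u

open CategoryTheory CategoryTheory.Limits MonoidalCategory CartesianMonoidalCategory MonObj AlgebraicGeometry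

noncomputable section

namespace Groth.Agent.MaxTorus

open FixedSmooth HomTriv DSMapLib QuotTorus

variable {S : Scheme.{u}} {M N : Type} [AddCommGroup M] [AddCommGroup N]

theorem map_pow_fun {G X : Over S} [GrpObj G] {A : Type*} [Monoid A] (f : A → (X ⟶ G)) (h₁ : f 1 = 1)
    (h₂ : ∀ a b, f (a * b) = f a * f b) (a : A) (n : ℕ) : f (a ^ n) = f a ^ n :=
  map_pow (⟨⟨f, h₁⟩, h₂⟩ : A →* (X ⟶ G)) a n

theorem dsPt_pow {B : CommRingCat.{u}} (q : Spec B ⟶ S) (χ : Multiplicative M →* B) (n : ℕ) :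
    dsPt M q (χ ^ n) = dsPt M q χ ^ n :=
  map_pow_fun (G := Red.DS S M) (fun χ => dsPt M q χ) (map_one _) (fun a b => map_mul _ a b) χ n

theorem pow_dsPt {B : CommRingCat.{u}} (q : Spec B ⟶ S) (χ : Multiplicative M →* B) (n : ℕ) :
    dsPt M q χ ≫ Red.DSmap S (nsmulAddMonoidHom (α := M) n) = dsPt M q χ ^ n := by
  rw [dsPt_comp]
  refine Eq.trans ?_ (dsPt_pow q χ n)
  congr 1
  refine MonoidHom.ext fun m => ?_
  show χ (m ^ n) = _
  rw [map_pow]
  rfl

/-- Multiplication by `n` is the base change of multiplication by `n` on characters. -/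
theorem DSmap_nsmul (S : Scheme.{u}) (M : Type) [AddCommGroup M] (n : ℕ) :
    Red.DSmap S (nsmulAddMonoidHom (α := M) n) = (𝟙 (Red.DS S M)) ^ n :=
  hom_ext_affine _ _ fun D q w => by
    obtain ⟨χ, rfl⟩ := (dsPt M q).surjective w
    rw [pow_dsPt, MonObj.comp_pow, Category.comp_id]

/-- A homomorphism from a split torus to a group killed by a nonzero integer is trivial. -/
theorem eq_one_of_pow {K : Over S} [GrpObj K] (u : Red.DS S N ⟶ K) [IsMonHom u] [IsAddTorsionFree N] {n : ℕ}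
    (hn : n ≠ 0) (h : ∀ (X : Over S) (x : X ⟶ K), x ^ n = 1) : u = 1 := by
  haveI := isFpqc_DSmap S _ (show Function.Injective (nsmulAddMonoidHom (α := N) n) from nsmul_right_injective hn)
  haveI : Epi (Red.DSmap S (nsmulAddMonoidHom (α := N) n)) := GrpQuotLib.epi_of_isFpqc _
  rw [← cancel_epi (Red.DSmap S (nsmulAddMonoidHom (α := N) n)), MonObj.comp_one, DSmap_nsmul, MonObj.pow_comp,
    Category.id_comp]
  exact h _ u

/-- A homomorphism of a split torus into `D(M)` factors through `D(M / torsion)`. -/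
theorem exists_factor_torsion [AddGroup.FG M] [IsAddTorsionFree N] (u : Red.DS S N ⟶ Red.DS S M) [IsMonHom u] :
    ∃ k : Red.DS S N ⟶ Red.DS S (M ⧸ AddCommGroup.torsion M),
      k ≫ Red.DSmap S (QuotientAddGroup.mk' (AddCommGroup.torsion M)) = u := by
  haveI : AddGroup.FG (AddCommGroup.torsion M) := by
    haveI : Module.Finite ℤ M := Module.Finite.iff_addGroup_fg.2 inferInstance
    exact Module.Finite.iff_addGroup_fg.1 (inferInstanceAs
      (Module.Finite ℤ (AddSubgroup.toIntSubmodule (AddCommGroup.torsion M))))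
  haveI : Finite (AddCommGroup.torsion M) :=
    AddCommGroup.finite_of_fg_isAddTorsion _ fun x => isOfFinAddOrder_iff_nsmul_eq_zero.2 (by
      obtain ⟨n, hn, hx⟩ := isOfFinAddOrder_iff_nsmul_eq_zero.1 ((AddCommGroup.mem_torsion x.1).1 x.2)
      exact ⟨n, hn, Subtype.ext hx⟩)
  haveI := isMonHom_DSmap S (AddCommGroup.torsion M).subtype
  refine exists_lift_of_comp_eq_one (AddCommGroup.torsion M).subtype _ (QuotientAddGroup.mk'_surjective _)
    (by rw [QuotientAddGroup.ker_mk', AddSubgroup.range_subtype]) u ?_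
  refine eq_one_of_pow _ (n := Nat.card (AddCommGroup.torsion M)) Nat.card_pos.ne' fun X x => ?_
  refine hom_ext_affine _ _ fun D q w => ?_
  obtain ⟨χ, hχ⟩ := (dsPt (AddCommGroup.torsion M) q).surjective (w ≫ x)
  rw [MonObj.comp_pow, MonObj.comp_one, ← hχ, ← dsPt_pow, ← map_one (dsPt (AddCommGroup.torsion M) q)]
  congr 1
  refine MonoidHom.ext fun m => ?_
  show χ m ^ _ = 1
  rw [← map_pow, show m ^ Nat.card (AddCommGroup.torsion M) = 1 from pow_card_eq_one' (G := Multiplicative (AddCommGroup.torsion M)) (x := m),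
    map_one]

theorem isTorus_of_split {T : Over S} [GrpObj T] {r : ℕ} (hT : Red.IsSplitTorusWith (Fin r → ℤ) T) : Red.IsTorus T := by
  refine ⟨S, 𝟙 S, inferInstance, inferInstance, fun V hV => ⟨V, hV.isCompact, by simp⟩, fun s => ?_⟩
  obtain ⟨e⟩ := hT
  obtain ⟨e'⟩ := nonempty_bcId_iso T
  exact ⟨⊤, trivial, r, isSplit_of_comp (⊤ : S.Opens).ι (𝟙 S) rfl ⟨e' ≪≫ e ≪≫
    (QuotTorus.nonempty_bcId_iso (Red.DS S (Fin r → ℤ))).some.symm ≪≫
      HomDesc.bcGrpIso (𝟙 S) _ (Limits.IsTerminal.hom_ext specULiftZIsTerminal _ _) (Red.diag (ULift.{u} ℤ) (Fin r → ℤ))⟩⟩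

/-- A split subtorus has rank at most that of the group at any field-valued point. -/
theorem rank_le {G T : Over S} [GrpObj G] [GrpObj T] {r : ℕ} (hT : Red.IsSplitTorusWith (Fin r → ℤ) T) (j : T ⟶ G)
    [IsMonHom j] [Mono j] {k : Type u} [Field k] {t : Spec (CommRingCat.of k) ⟶ S} (σ : Split G t M)
    [AddGroup.FG M] : r ≤ Module.finrank ℤ M := by
  obtain ⟨e⟩ := hT
  let e₀ : T ≅ Red.DS S (Fin r → ℤ) := ⟨e.hom.hom.hom, e.inv.hom.hom,
    congrArg (fun f => f.hom.hom) e.hom_inv_id, congrArg (fun f => f.hom.hom) e.inv_hom_id⟩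
  haveI : IsMonHom e₀.inv := e.inv.hom.isMonHom_hom
  obtain ⟨φ, hφ⟩ := exists_char_field (dsSplit (Fin r → ℤ) t) σ (e₀.inv ≫ j)
  have hs := surjective_of_mono_split (dsSplit (Fin r → ℤ) t) σ (e₀.inv ≫ j) φ hφ
  haveI : Module.Finite ℤ M := Module.Finite.iff_addGroup_fg.2 inferInstance
  let f : M →ₗ[ℤ] (Fin r → ℤ) := (MonoidHom.toAdditive φ : M →+ (Fin r → ℤ)).toIntLinearMap
  have h := LinearMap.finrank_range_le f
  rw [LinearMap.range_eq_top.2 (show Function.Surjective f from hs), finrank_top, Module.finrank_fin_fun] at h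
  exact h

theorem le_of_mono {T T' : Over S} [GrpObj T] [GrpObj T'] {r r' : ℕ} (hT : Red.IsSplitTorusWith (Fin r → ℤ) T)
    (hT' : Red.IsSplitTorusWith (Fin r' → ℤ) T') (g : T ⟶ T') [IsMonHom g] [Mono g] (s : S) : r ≤ r' := by
  obtain ⟨e⟩ := hT'
  let e₀ : T' ≅ Red.DS S (Fin r' → ℤ) := ⟨e.hom.hom.hom, e.inv.hom.hom,
    congrArg (fun f => f.hom.hom) e.hom_inv_id, congrArg (fun f => f.hom.hom) e.inv_hom_id⟩
  haveI : IsMonHom e₀.hom := e.hom.hom.isMonHom_hom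
  exact (rank_le hT (g ≫ e₀.hom) (dsSplit (Fin r' → ℤ) (Red.geomPt s))).trans_eq (Module.finrank_fin_fun (R := ℤ))

theorem geomFibre_split {T : Over S} [GrpObj T] {r : ℕ} (hT : Red.IsSplitTorusWith (Fin r → ℤ) T) (s : S) :
    Red.IsSplitTorusWith (Fin r → ℤ) (Red.geomFibre s T) := by
  obtain ⟨e⟩ := hT
  exact ⟨(Over.pullback (Red.geomPt s)).mapGrp.mapIso e ≪≫
    HomDesc.bcGrpIso _ _ (Limits.IsTerminal.hom_ext specULiftZIsTerminal _ _) (Red.diag (ULift.{u} ℤ) (Fin r → ℤ))⟩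

theorem mem_subtori {G : Over S} [GrpObj G] {r : ℕ} (T : Over S) [GrpObj T] (j : T ⟶ G) (hj : IsMonHom j) (hj' : Mono j)
    (hT : Red.IsSplitTorusWith (Fin r → ℤ) T) :
    ∃ (T : Over S) (_ : GrpObj T) (j : T ⟶ G), IsMonHom j ∧ Mono j ∧ Red.IsSplitTorusWith (Fin r → ℤ) T :=
  ⟨T, ‹_›, j, hj, hj', hT⟩

theorem mem_subtori_one {G : Over S} [GrpObj G] {r : ℕ} (T : Over S) [GrpObj T]
    (hT : Red.IsSplitTorusWith (Fin r → ℤ) T) (hsub : ∀ (X : Over S) (a b : X ⟶ T), a = b) :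
    ∃ (T : Over S) (_ : GrpObj T) (j : T ⟶ G), IsMonHom j ∧ Mono j ∧ Red.IsSplitTorusWith (Fin r → ℤ) T := by
  refine mem_subtori T (1 : T ⟶ G) ⟨?_, ?_⟩ ⟨fun a b _ => hsub _ a b⟩ hT
  · rw [MonObj.one_eq_one, MonObj.one_eq_one, MonObj.comp_one]
  · rw [MonObj.mul_eq_mul, MonObj.mul_eq_mul, MonObj.comp_one, MonObj.comp_mul, tensorHom_fst, tensorHom_snd,
      MonObj.comp_one, MonObj.comp_one, _root_.one_mul]

/-- A maximal split subtorus exists. -/
theorem exists_max_split {G : Over S} [GrpObj G] (hG : SGA3x.IsMultTypeFT G) :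
    ∃ (T : Over S) (_ : GrpObj T) (j : T ⟶ G) (r : ℕ), IsMonHom j ∧ Mono j ∧ Red.IsSplitTorusWith (Fin r → ℤ) T ∧
      ∀ (T' : Over S) [GrpObj T'] (j' : T' ⟶ G) [IsMonHom j'] [Mono j'] (r' : ℕ),
        Red.IsSplitTorusWith (Fin r' → ℤ) T' → Nonempty S → r' ≤ r := by
  let P : Set ℕ := {r | ∃ (T : Over S) (_ : GrpObj T) (j : T ⟶ G), IsMonHom j ∧ Mono j ∧
    Red.IsSplitTorusWith (Fin r → ℤ) T}
  have h0 : 0 ∈ P := by
    refine mem_subtori_one (Red.DS S (Fin 0 → ℤ)) ⟨Iso.refl _⟩ fun X a b => hom_ext_affine _ _ fun D q w => ?_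
    obtain ⟨χ, hχ⟩ := (dsPt (Fin 0 → ℤ) q).surjective (w ≫ a)
    obtain ⟨χ', hχ'⟩ := (dsPt (Fin 0 → ℤ) q).surjective (w ≫ b)
    rw [← hχ, ← hχ']
    congr 1
    exact MonoidHom.ext fun m => by rw [Subsingleton.elim m 1, map_one, map_one]
  rcases isEmpty_or_nonempty S with hS | ⟨⟨s⟩⟩
  · obtain ⟨T, _, j, hj, hj', hT⟩ := h0
    exact ⟨T, _, j, 0, hj, hj', hT, fun _ _ _ _ _ _ _ h => (IsEmpty.false h.some).elim⟩
  obtain ⟨k, _, t, M, _, hM, ⟨σ⟩, -⟩ := exists_field_split hG s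
  have hbdd : BddAbove P := ⟨Module.finrank ℤ M, fun r ⟨T, _, j, _, _, hT⟩ => rank_le hT j σ⟩
  obtain ⟨T, _, j, hj, hj', hT⟩ := Nat.sSup_mem ⟨0, h0⟩ hbdd
  exact ⟨T, _, j, sSup P, hj, hj', hT, fun T' i' j' _ _ r' hT' _ =>
    le_csSup hbdd ⟨T', i', j', ‹_›, ‹_›, hT'⟩⟩

theorem isIso_of_le {G T T' : Over S} [GrpObj G] [GrpObj T] [GrpObj T'] (j : T ⟶ G) [IsMonHom j] [Mono j] {r r' : ℕ}
    (hT : Red.IsSplitTorusWith (Fin r → ℤ) T) (j' : T' ⟶ G) [IsMonHom j'] [Mono j']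
    (hT' : Red.IsSplitTorusWith (Fin r' → ℤ) T') (g : T ⟶ T') (hg : g ≫ j' = j) (hle : Nonempty S → r' ≤ r) :
    IsIso g := by
  haveI : IsMonHom g := CommGrpAbLib.isMonHom_of_mono j' g j hg
  haveI : Mono g := mono_of_mono_fac hg
  refine SplitHom.isIso_of_mono_of_sameRank (isTorus_of_split hT) (isTorus_of_split hT') g fun s => ⟨r, geomFibre_split hT s, ?_⟩
  rw [le_antisymm (le_of_mono hT hT' g s) (hle ⟨s⟩)]
  exact geomFibre_split hT' s

end Groth.Agent.MaxTorus
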