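import Groth.Agent.MaxTorus.Image
import Groth.Agent.MultKer.Main
import Groth.Agent.FpqcDesc.Basic
/-!
The image of a homomorphism from a diagonalisable group near a point.
-/

set_option autoImplicit false
set_option backward.isDefEq.respectTransparency false
set_option backward.isDefEq.respectTransparency.types false
set_option linter.style.haveILetI false
set_option linter.unusedSectionVars false

universe u

open CategoryTheory CategoryTheory.Limits MonoidalCategory CartesianMonoidalCategory MonObj AlgebraicGeometry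

noncomputable section

namespace Groth.Agent.MaxTorus

open FixedSmooth HomTriv DSMapLib QuotTorus

variable {S : Scheme.{u}}

/-- The identification of the base change of `D(N)`. -/
def dsBc {V : Scheme.{u}} (c : V ⟶ S) (N : Type) [AddCommGroup N] :
    Grp.mk (Red.bc c (Red.DS S N)) ≅ Grp.mk (Red.DS V N) :=
  HomDesc.bcGrpIso c _ (Limits.IsTerminal.hom_ext specULiftZIsTerminal _ _) (Red.diag (ULift.{u} ℤ) N)

theorem adjEquiv_bcComp {S' S'' Z : Scheme.{u}} (f : S'' ⟶ S') (g : S' ⟶ Z) {d : S'' ⟶ Z} (h : f ≫ g = d) (H : Over Z)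
    [GrpObj H] (Y : Over S'') (x : (Over.map g).obj ((Over.map f).obj Y) ⟶ H) :
    adjEquiv f (Red.bc g H) Y (adjEquiv g H _ x) ≫ (ActBC.bcCompIso f g H h).hom =
      adjEquiv d H Y ((HomDesc.mapAssoc f g h Y).hom ≫ x) := by
  apply (adjEquiv d H Y).symm.injective
  rw [HomDesc.symm_comp_bcCompIso, MulEquiv.symm_apply_apply, MulEquiv.symm_apply_apply, MulEquiv.symm_apply_apply]

theorem dsPt_bc {V : Scheme.{u}} (c : V ⟶ S) (N : Type) [AddCommGroup N] {D : CommRingCat.{u}} (q : Spec D ⟶ V)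
    (χ : Multiplicative N →* D) :
    adjEquiv c (Red.DS S N) (Over.mk q) (dsPt N (q ≫ c) χ) ≫ (dsBc c N).hom.hom.hom = dsPt N q χ := by
  letI := zAlg D
  refine (adjEquiv_bcComp c (Limits.IsTerminal.from specULiftZIsTerminal S)
    (d := Limits.IsTerminal.from specULiftZIsTerminal V) (Limits.IsTerminal.hom_ext specULiftZIsTerminal _ _)
    (Red.diag (ULift.{u} ℤ) N) (Over.mk q) _).trans ?_
  show (Over.mapPullbackAdj _).homEquiv _ _ _ = (Over.mapPullbackAdj _).homEquiv _ _ _
  congr 1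

theorem mono_of_ker {K G : Over S} [GrpObj K] [GrpObj G] (g : K ⟶ G) [IsMonHom g]
    (h : ∀ {Y : Over S} (y : Y ⟶ K), y ≫ g = 1 → y = 1) : Mono g :=
  ⟨fun a b hab => mul_inv_eq_one.mp (h _ (by rw [MonObj.mul_comp, GrpObj.inv_comp, hab, mul_inv_cancel]))⟩

/-- A homomorphism whose kernel is cut out by a group of characters has an image. -/
theorem exists_image_of_kernel {G : Over S} [GrpObj G] {N : Type} [AddCommGroup N] (w : Red.DS S N ⟶ G) [IsMonHom w]
    (N₀ : AddSubgroup N)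
    (h : ∀ {D : CommRingCat.{u}} (q : Spec D ⟶ S) (χ : Multiplicative N →* D),
      dsPt N q χ ≫ w = 1 ↔ ∀ n ∈ N₀, χ (Multiplicative.ofAdd n) = 1) :
    ∃ g : Red.DS S N₀ ⟶ G, IsMonHom g ∧ Mono g ∧ Red.DSmap S N₀.subtype ≫ g = w := by
  haveI := isMonHom_DSmap S N₀.subtype
  have hone : Red.DSmap S (QuotientAddGroup.mk' N₀) ≫ w = 1 := hom_ext_affine _ _ fun D q z => by
    obtain ⟨χ, rfl⟩ := (dsPt (N ⧸ N₀) q).surjective z
    rw [MonObj.comp_one, ← Category.assoc, dsPt_comp, h]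
    intro n hn
    show χ (Multiplicative.ofAdd (QuotientAddGroup.mk' N₀ n)) = 1
    rw [show QuotientAddGroup.mk' N₀ n = 0 from (QuotientAddGroup.eq_zero_iff _).2 hn]
    exact map_one χ
  have hq : QProp (Red.DSmap S (QuotientAddGroup.mk' N₀)) (Red.DSmap S N₀.subtype) :=
    ⟨isFpqc_DSmap S _ N₀.subtype_injective,
      comp_eq_one _ _ (AddMonoidHom.ext fun n => (QuotientAddGroup.eq_zero_iff _).2 n.2),
      fun k hk => exists_lift_of_comp_eq_one _ _ (QuotientAddGroup.mk'_surjective N₀)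
        (by rw [QuotientAddGroup.ker_mk', AddSubgroup.range_subtype]) k hk⟩
  obtain ⟨g, hg, hgm⟩ := hq.exists_hom w hone
  refine ⟨g, hgm, ?_, hg⟩
  haveI := hgm
  have hker : ∀ {Y : Over S} (y : Y ⟶ Red.DS S N₀), y ≫ g = 1 → y = 1 := fun {Y} y hy => by
    haveI := hq.fpqc
    let π₀ := pullback.fst y.left (Red.DSmap S N₀.subtype).left
    haveI : SchDesc.IsFpqc π₀ := SchDesc.IsFpqc.of_isPullback
      (IsPullback.of_hasPullback y.left (Red.DSmap S N₀.subtype).left).flip
    let Y' : Over S := Over.mk (π₀ ≫ Y.hom)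
    let π : Y' ⟶ Y := Over.homMk π₀ rfl
    let z : Y' ⟶ Red.DS S N := Over.homMk (pullback.snd y.left (Red.DSmap S N₀.subtype).left) (by
      show _ = π₀ ≫ Y.hom
      rw [← Over.w (Red.DSmap S N₀.subtype), ← Over.w y, ← Category.assoc, ← Category.assoc]
      exact congrArg (· ≫ _) pullback.condition.symm)
    haveI : SchDesc.IsFpqc π.left := ‹SchDesc.IsFpqc π₀›
    haveI : Epi π := GrpQuotLib.epi_of_isFpqc _
    have hz : z ≫ Red.DSmap S N₀.subtype = π ≫ y := Over.OverMorphism.ext pullback.condition.symm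
    rw [← cancel_epi π, MonObj.comp_one, ← hz]
    have hzw : z ≫ w = 1 := by rw [← hg, ← Category.assoc, hz, Category.assoc, hy, MonObj.comp_one]
    refine hom_ext_affine _ _ fun D q v => ?_
    obtain ⟨χ, hχ⟩ := (dsPt N q).surjective (v ≫ z)
    have h1 := (h q χ).1 (by rw [hχ, Category.assoc, hzw, MonObj.comp_one])
    rw [MonObj.comp_one, ← Category.assoc, ← hχ, dsPt_comp, ← map_one (dsPt N₀ q)]
    exact congrArg _ (MonoidHom.ext fun n => h1 _ (Multiplicative.toAdd n).2)
  exact mono_of_ker (K := Red.DS S N₀) g hker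

/-- Near every point a homomorphism of a diagonalisable group has an image. -/
theorem exists_image_nhd {G : Over S} [GrpObj G] [IsSeparated G.hom] [LocallyOfFiniteType G.hom] {N : Type}
    [AddCommGroup N] [AddGroup.FG N] (w : Red.DS S N ⟶ G) [IsMonHom w] (s : S) :
    ∃ (V : S.Opens) (N₀ : AddSubgroup N) (g : Red.DS V.toScheme N₀ ⟶ Red.bc V.ι G), s ∈ V ∧ IsMonHom g ∧ Mono g ∧
      (dsBc V.ι N).hom.hom.hom ≫ Red.DSmap V.toScheme N₀.subtype ≫ g = (Over.pullback V.ι).map w := by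
  obtain ⟨V₀, hV₀, hsV₀, -⟩ := exists_isAffineOpen_mem_and_subset (x := s) (U := ⊤) trivial
  let t : Spec Γ(S, V₀) ⟶ S := hV₀.fromSpec
  obtain ⟨P, hPs⟩ : ∃ P : Spec Γ(S, V₀), t P = s := hV₀.range_fromSpec.superset hsV₀
  obtain ⟨f, N₁, hf, hkey⟩ := MultKer.exists_normal_form (dsSplit N t) w (Or.inr inferInstance) P
  let N₀ : AddSubgroup N := N₁.toAddSubgroup'
  let V : S.Opens := t ''ᵁ PrimeSpectrum.basicOpen f
  have hmem : ∀ {D : CommRingCat.{u}} (q : Spec D ⟶ V.toScheme),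
      ∃ g : Γ(S, V₀) ⟶ D, Spec.map g ≫ t = q ≫ V.ι ∧ IsUnit (g.hom f) := fun {D} q => by
    have hr : Set.range (q ≫ V.ι) ⊆ Set.range t := by
      rintro _ ⟨y, rfl⟩
      obtain ⟨x, -, hx⟩ := (q y).2
      exact ⟨x, hx⟩
    obtain ⟨g, hg⟩ := Spec.map_surjective (IsOpenImmersion.lift t (q ≫ V.ι) hr)
    have e : Spec.map g ≫ t = q ≫ V.ι := by rw [hg]; exact IsOpenImmersion.lift_fac _ _ _
    refine ⟨g, e, ?_⟩
    by_contra hu
    obtain ⟨m, hm, hfm⟩ := exists_max_ideal_of_mem_nonunits hu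
    let y : Spec D := ⟨m, hm.isPrime⟩
    obtain ⟨x, hx, hxy⟩ := (q y).2
    have e' : t (Spec.map g y) = t x := by
      rw [← Scheme.Hom.comp_apply, e, Scheme.Hom.comp_apply]
      exact hxy.symm
    have := t.isOpenEmbedding.injective e'
    exact hx (show f ∈ (x : PrimeSpectrum _).asIdeal by rw [← this]; exact hfm)
  let e := dsBc V.ι N
  haveI : IsMonHom e.inv.hom.hom := e.inv.hom.isMonHom_hom
  have hw : IsMonHom (e.inv.hom.hom ≫ (Over.pullback V.ι).map w) := inferInstance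
  have he : e.hom.hom.hom ≫ e.inv.hom.hom = 𝟙 _ := congrArg (fun f => f.hom.hom) e.hom_inv_id
  obtain ⟨g, hgm, hgmono, hg⟩ := @exists_image_of_kernel V.toScheme (Red.bc V.ι G) _ N _
    (e.inv.hom.hom ≫ (Over.pullback V.ι).map w) hw N₀ fun {D} q χ => by
      rw [← dsPt_bc V.ι N q χ]
      simp only [Category.assoc]
      rw [reassoc_of% (show (dsBc V.ι N).hom.hom.hom ≫ e.inv.hom.hom = 𝟙 _ from he), ← adjEquiv_comp,
        MulEquiv.map_eq_one_iff]
      obtain ⟨a, ha, hau⟩ := hmem q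
      have hcongr : ∀ (p p' : Spec D ⟶ S), p = p' → (dsPt N p χ ≫ w = 1 ↔ dsPt N p' χ ≫ w = 1) := by
        rintro p p' rfl
        rfl
      refine ((hcongr _ _ ha).symm.trans (hkey a χ hau)).trans ?_
      exact ⟨fun h n hn => h _ hn, fun h n hn => h (Multiplicative.toAdd n) hn⟩
  refine ⟨V, N₀, g, ⟨P, hf, hPs⟩, hgm, hgmono, ?_⟩
  rw [hg, reassoc_of% he]

/-- A monomorphism of a diagonalisable group into a group of multiplicative type is a closed immersion. -/
theorem isClosedImmersion_of_mono_DS {G : Over S} [GrpObj G] (hG : SGA3x.IsMultTypeFT G) {N : Type} [AddCommGroup N]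
    [AddGroup.FG N] (g : Red.DS S N ⟶ G) (hg : IsMonHom g) (hg' : Mono g) : IsClosedImmersion g.left := by
  haveI := hg
  haveI := hg'
  haveI : IsAffineHom G.hom := isAffineHom_of_isMultTypeLoc (WeilClosedLib.IsMultTypeLoc.of_isMultTypeFT hG)
  haveI : IsAffineHom (Red.DS S N).hom := isAffineHom_DS S N
  haveI := FpqcDesc.isClosedImmersion_descends.{u}
  haveI := FpqcDesc.mono_descends.{u}
  have hQ : SplitHom.CharIff (@IsClosedImmersion) (fun _ _ _ _ φ => Function.Surjective φ) := by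
    intro A _ M M' _ _ φ
    refine ⟨fun h => (SplitHom.charIff_mono A M M' φ).1 (mono_of_isClosedImmersion _ h), fun h => ?_⟩
    exact IsClosedImmersion.spec_of_surjective (CommRingCat.ofHom (MonoidAlgebra.mapDomainRingHom A φ))
      (SplitHom.surjective_of_surjective A φ h)
  obtain ⟨U, hUc, hU, hT⟩ := SplitHom.exists_clopen (@IsClosedImmersion) _ hQ (MultKer.isMultTypeFT_DS S N) hG g
  have hall : ∀ s : S, s ∈ U := fun s => by
    obtain ⟨k, _, t, M, _, hM, ⟨σ⟩, rfl⟩ := exists_field_split hG s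
    rw [hU]
    let B : CommRingCat.{u} := CommRingCat.of k
    haveI : Nontrivial B := inferInstanceAs (Nontrivial k)
    obtain ⟨f, φ, hf, hφ⟩ := SplitHom.exists_char_hom (dsSplit N t) σ g (⟨⊥, Ideal.isPrime_bot⟩ : PrimeSpectrum B)
    have hu : IsUnit ((𝟙 B : B ⟶ B).hom f) := IsUnit.mk0 (G₀ := k) f fun h => hf (by
      show f ∈ (⊥ : Ideal B)
      exact h)
    haveI : Mono ((Over.pullback (Spec.map (𝟙 B) ≫ t)).map g) := Functor.map_mono _ _
    have hm : MorphismProperty.monomorphisms Scheme.{u} ((Over.pullback (Spec.map (𝟙 B) ≫ t)).map g).left :=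
      Over.mono_left_of_mono _
    have hc := (SplitHom.chart_iff (@IsClosedImmersion) _ hQ (dsSplit N t) σ g φ (𝟙 B) (hφ (𝟙 B) hu)).2
      ((SplitHom.chart_iff (MorphismProperty.monomorphisms Scheme.{u}) _ SplitHom.charIff_mono (dsSplit N t) σ g φ
        (𝟙 B) (hφ (𝟙 B) hu)).1 hm)
    rw [show Spec.map (𝟙 B) ≫ t = t by rw [Spec.map_id, Category.id_comp]] at hc
    let κ : Spec (CommRingCat.of k) ⟶ Spec (S.residueField (t (IsLocalRing.closedPoint k))) :=
      Spec.map (Scheme.descResidueField (Scheme.stalkClosedPointTo t))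
    haveI : Flat κ := (HasRingHomProperty.Spec_iff (P := @Flat)).2 (MonoFibre.flat_of_field _)
    haveI : Surjective κ := ⟨fun z => ⟨IsLocalRing.closedPoint k,
      @Subsingleton.elim _ (inferInstanceAs (Subsingleton (PrimeSpectrum (S.residueField _)))) _ _⟩⟩
    exact SplitHom.of_fpqc (P := @IsClosedImmersion) g κ
      (Scheme.descResidueField_stalkClosedPointTo_fromSpecResidueField _ _ t) hc
  let c : S ⟶ U.toScheme := IsOpenImmersion.lift U.ι (𝟙 S) fun y _ => U.range_ι.superset (hall y)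
  haveI : IsClosedImmersion ((Over.pullback (𝟙 S)).map g).left :=
    SplitHom.of_base (P := @IsClosedImmersion) g c (IsOpenImmersion.lift_fac _ _ _) hT
  haveI : IsIso (pullback.fst (Red.DS S N).hom (𝟙 S)) := inferInstance
  haveI : IsIso (pullback.fst G.hom (𝟙 S)) := inferInstance
  rw [show g.left = inv (pullback.fst (Red.DS S N).hom (𝟙 S)) ≫ ((Over.pullback (𝟙 S)).map g).left ≫
    pullback.fst G.hom (𝟙 S) by rw [← (isPullback_bc (𝟙 S) g).w, IsIso.inv_hom_id_assoc]]
  infer_instance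

end Groth.Agent.MaxTorus
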