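import Groth.Agent.MaxTorus.Basic
import Groth.Agent.SubDesc.Family
/-!
Charts of a group of multiplicative type and its torus.
-/

set_option autoImplicit false
set_option backward.isDefEq.respectTransparency false
set_option backward.isDefEq.respectTransparency.types false
set_option linter.style.haveILetI false
set_option linter.unusedSectionVars false

universe u

open CategoryTheory CategoryTheory.Limits MonoidalCategory CartesianMonoidalCategory MonObj AlgebraicGeometry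

noncomputable section

namespace Groth.Agent.MaxTorus

open FixedSmooth HomTriv DSMapLib QuotTorus

variable {S : Scheme.{u}}

/-- Restricting a trivialisation. -/
def chartBc {U W : Scheme.{u}} (c : W ⟶ U) (f : U ⟶ S) {d : W ⟶ S} (h : c ≫ f = d) {X : Over S} [GrpObj X]
    {M : Type} [AddCommGroup M] (e : Grp.mk (Red.bc f X) ≅ Grp.mk (Red.DS U M)) :
    Grp.mk (Red.bc d X) ≅ Grp.mk (Red.DS W M) :=
  (HomDesc.bcGrpIso c f h X).symm ≪≫ (Over.pullback c).mapGrp.mapIso e ≪≫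
    HomDesc.bcGrpIso c _ (Limits.IsTerminal.hom_ext specULiftZIsTerminal _ _) (Red.diag (ULift.{u} ℤ) M)

theorem bc_DSmap {U W : Scheme.{u}} (c : W ⟶ U) {M N : Type} [AddCommGroup M] [AddCommGroup N] (φ : M →+ N) :
    (Over.pullback c).map (Red.DSmap U φ) ≫ (ActBC.bcCompIso c (Limits.IsTerminal.from specULiftZIsTerminal U)
        (Red.diag (ULift.{u} ℤ) M) (Limits.IsTerminal.hom_ext specULiftZIsTerminal _ _)).hom =
      (ActBC.bcCompIso c (Limits.IsTerminal.from specULiftZIsTerminal U) (Red.diag (ULift.{u} ℤ) N)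
        (Limits.IsTerminal.hom_ext specULiftZIsTerminal _ _)).hom ≫ Red.DSmap W φ :=
  ActBC.bcCompIso_hom_naturality c _ _ (Red.diagMap (ULift.{u} ℤ) φ)

theorem chartBc_square {U W : Scheme.{u}} (c : W ⟶ U) (f : U ⟶ S) {d : W ⟶ S} (h : c ≫ f = d) {X Y : Over S} [GrpObj X]
    [GrpObj Y] {M N : Type} [AddCommGroup M] [AddCommGroup N] (φ : M →+ N) (j : Y ⟶ X)
    (eX : Grp.mk (Red.bc f X) ≅ Grp.mk (Red.DS U M)) (eY : Grp.mk (Red.bc f Y) ≅ Grp.mk (Red.DS U N))
    (hj : (Over.pullback f).map j ≫ eX.hom.hom.hom = eY.hom.hom.hom ≫ Red.DSmap U φ) :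
    (Over.pullback d).map j ≫ (chartBc c f h eX).hom.hom.hom = (chartBc c f h eY).hom.hom.hom ≫ Red.DSmap W φ := by
  show (Over.pullback d).map j ≫ (ActBC.bcCompIso c f X h).inv ≫ (Over.pullback c).map eX.hom.hom.hom ≫
      (ActBC.bcCompIso c _ (Red.diag (ULift.{u} ℤ) M) _).hom =
    ((ActBC.bcCompIso c f Y h).inv ≫ (Over.pullback c).map eY.hom.hom.hom ≫
      (ActBC.bcCompIso c _ (Red.diag (ULift.{u} ℤ) N) _).hom) ≫ Red.DSmap W φ
  have h1 : (Over.pullback d).map j ≫ (ActBC.bcCompIso c f X h).inv =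
      (ActBC.bcCompIso c f Y h).inv ≫ (Over.pullback c).map ((Over.pullback f).map j) := by
    rw [Iso.comp_inv_eq, Category.assoc, ActBC.bcCompIso_hom_naturality, Iso.inv_hom_id_assoc]
  rw [reassoc_of% h1, Category.assoc, Category.assoc, ← bc_DSmap c φ]
  congr 1
  rw [← Category.assoc ((Over.pullback c).map eY.hom.hom.hom), ← Category.assoc, ← Functor.map_comp,
    ← Functor.map_comp]
  exact congrArg (fun z => (Over.pullback c).map z ≫ _) hj

/-- Homomorphisms of split tori into a diagonalisable group land in its torus. -/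
theorem exists_factor_chart {R P Q : Over S} [GrpObj R] [GrpObj P] [GrpObj Q] {M N : Type} [AddCommGroup M]
    [AddGroup.FG M] [AddCommGroup N] [IsAddTorsionFree N] (eR : Grp.mk R ≅ Grp.mk (Red.DS S N))
    (eP : Grp.mk P ≅ Grp.mk (Red.DS S M)) (eQ : Grp.mk Q ≅ Grp.mk (Red.DS S (M ⧸ AddCommGroup.torsion M)))
    (m : Q ⟶ P) (hm : m ≫ eP.hom.hom.hom = eQ.hom.hom.hom ≫
      Red.DSmap S (QuotientAddGroup.mk' (AddCommGroup.torsion M)))
    (u : R ⟶ P) (hu : IsMonHom u) : ∃ k : R ⟶ Q, k ≫ m = u := by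
  haveI := hu
  haveI : IsMonHom eR.inv.hom.hom := eR.inv.hom.isMonHom_hom
  haveI : IsMonHom eP.hom.hom.hom := eP.hom.hom.isMonHom_hom
  obtain ⟨k, hk⟩ := exists_factor_torsion (eR.inv.hom.hom ≫ u ≫ eP.hom.hom.hom)
  refine ⟨eR.hom.hom.hom ≫ k ≫ eQ.inv.hom.hom, ?_⟩
  have hQ : eQ.inv.hom.hom ≫ eQ.hom.hom.hom = 𝟙 _ := congrArg (fun f => f.hom.hom) eQ.inv_hom_id
  have hR : eR.hom.hom.hom ≫ eR.inv.hom.hom = 𝟙 _ := congrArg (fun f => f.hom.hom) eR.hom_inv_id
  have hP : eP.hom.hom.hom ≫ eP.inv.hom.hom = 𝟙 _ := congrArg (fun f => f.hom.hom) eP.hom_inv_id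
  rw [← Category.comp_id m, ← hP]
  simp only [Category.assoc]
  rw [reassoc_of% hm, reassoc_of% hQ, reassoc_of% hk, reassoc_of% hR, hP, Category.comp_id]

/-- `j` is, locally, the inclusion of `D(M / torsion)` into `D(M)`. -/
def IsTorusPart {T G : Over S} [GrpObj T] [GrpObj G] (j : T ⟶ G) : Prop :=
  ∃ (J : Type u) (U : J → Scheme.{u}) (f : ∀ i, U i ⟶ S), Presieve.ofArrows U f ∈ Scheme.fpqcPrecoverage S ∧
    ∀ i, ∃ (M : Type) (_ : AddCommGroup M) (_ : AddGroup.FG M) (eG : Grp.mk (Red.bc (f i) G) ≅ Grp.mk (Red.DS (U i) M))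
      (eT : Grp.mk (Red.bc (f i) T) ≅ Grp.mk (Red.DS (U i) (M ⧸ AddCommGroup.torsion M))),
      (Over.pullback (f i)).map j ≫ eG.hom.hom.hom =
        eT.hom.hom.hom ≫ Red.DSmap (U i) (QuotientAddGroup.mk' (AddCommGroup.torsion M))

theorem IsTorusPart.bc {T G : Over S} [GrpObj T] [GrpObj G] {j : T ⟶ G} (h : IsTorusPart j) {S' : Scheme.{u}}
    (t : S' ⟶ S) : IsTorusPart ((Over.pullback t).map j) := by
  obtain ⟨J, U, f, hf, hc⟩ := h
  refine ⟨J, fun i => pullback t (f i), fun i => pullback.fst _ _,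
    Precoverage.mem_coverings_of_isPullback f hf t _ (fun i => pullback.snd _ _)
      (fun i => IsPullback.of_hasPullback _ _), fun i => ?_⟩
  obtain ⟨M, _, hM, eG, eT, hsq⟩ := hc i
  let a := pullback.fst t (f i)
  have hd : pullback.snd t (f i) ≫ f i = a ≫ t := pullback.condition.symm
  refine ⟨M, _, hM, HomDesc.bcGrpIso a t rfl G ≪≫ chartBc _ (f i) hd eG,
    HomDesc.bcGrpIso a t rfl T ≪≫ chartBc _ (f i) hd eT, ?_⟩
  show (Over.pullback a).map ((Over.pullback t).map j) ≫ (ActBC.bcCompIso a t G rfl).hom ≫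
      (chartBc _ (f i) hd eG).hom.hom.hom =
    ((ActBC.bcCompIso a t T rfl).hom ≫ (chartBc _ (f i) hd eT).hom.hom.hom) ≫ _
  rw [Category.assoc, ← chartBc_square _ (f i) hd _ j eG eT hsq, ← Category.assoc, ← Category.assoc,
    ActBC.bcCompIso_hom_naturality]

/-- Every homomorphism from a torus factors through the torus part. -/
theorem IsTorusPart.exists_factor {T G R : Over S} [GrpObj T] [GrpObj G] [GrpObj R] {j : T ⟶ G} [Mono j.left]
    (h : IsTorusPart j) (hR : Red.IsTorus R) (g : R ⟶ G) [IsMonHom g] : ∃ k : R ⟶ T, k ≫ j = g := by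
  obtain ⟨J, U, f, hf, hc⟩ := h
  obtain ⟨S', π, hflat, hsurj, hcov, hloc⟩ := hR
  haveI := SubDesc.isFpqc_of_hcov π hcov
  choose V hV r hr using hloc
  have hg := SubDesc.mem_refine π V hV
  refine SubDesc.exists_factor_fam _ (SubDesc.mem_pullback f hf _ hg) j g fun p => ?_
  obtain ⟨M, _, _, eG, eT, hsq⟩ := hc p.1
  let a := pullback.fst (f p.1) ((V p.2).ι ≫ π)
  let b := pullback.snd (f p.1) ((V p.2).ι ≫ π)
  obtain ⟨eR⟩ := hr p.2
  exact exists_factor_chart (chartBc b _ pullback.condition.symm eR) (chartBc a (f p.1) rfl eG)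
    (chartBc a (f p.1) rfl eT) _ (chartBc_square a (f p.1) rfl _ j eG eT hsq) _
    (inferInstanceAs (IsMonHom ((Over.pullback (a ≫ f p.1)).map g)))

end Groth.Agent.MaxTorus
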