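import Groth.Agent.MaxTorus.Basic
import Groth.Agent.HomTriv.Main
/-!
The image of a homomorphism from a split torus to a group of multiplicative type over a connected base.
-/

set_option autoImplicit false
set_option backward.isDefEq.respectTransparency false
set_option backward.isDefEq.respectTransparency.types false
set_option linter.style.haveILetI false
set_option linter.unusedSectionVars false

universe u

open CategoryTheory CategoryTheory.Limits MonoidalCategory CartesianMonoidalCategory MonObj AlgebraicGeometry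

noncomputable section

namespace Groth.Agent.MaxTorus

open FixedSmooth HomTriv DSMapLib QuotTorus

variable {S : Scheme.{u}} {G H : Over S} [GrpObj G] [GrpObj H]

/-- Over a field a homomorphism of split groups comes from characters, and is mono when they surject. -/
theorem exists_char_field_mono (hG : SGA3x.IsMultTypeFT G) (hH : SGA3x.IsMultTypeFT H) {k : Type u} [Field k]
    {t : Spec (CommRingCat.of k) ⟶ S} {M M' : Type} [AddCommGroup M] [AddCommGroup M'] [AddGroup.FG M']
    (σ : Split G t M) (τ : Split H t M') (u : G ⟶ H) [IsMonHom u] :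
    ∃ φ : Multiplicative M' →* Multiplicative M,
      (∀ {D : CommRingCat.{u}} (g : CommRingCat.of k ⟶ D) (χ : Multiplicative M →* D),
        σ.pt D (Spec.map g) χ ≫ u = τ.pt D (Spec.map g) (χ.comp φ)) ∧
      (Function.Surjective φ →
        Mono ((Over.pullback (S.fromSpecResidueField (t (IsLocalRing.closedPoint k)))).map u).left) := by
  let B : CommRingCat.{u} := CommRingCat.of k
  haveI : IsAffineHom G.hom := isAffineHom_of_isMultTypeLoc (WeilClosedLib.IsMultTypeLoc.of_isMultTypeFT hG)
  haveI : IsAffineHom H.hom := isAffineHom_of_isMultTypeLoc (WeilClosedLib.IsMultTypeLoc.of_isMultTypeFT hH)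
  obtain ⟨f, φ, hf, hφ⟩ := SplitHom.exists_char_hom σ τ u (⟨⊥, Ideal.isPrime_bot⟩ : PrimeSpectrum B)
  have hunit : ∀ {D : CommRingCat.{u}} (g : B ⟶ D), IsUnit (g.hom f) := fun g =>
    RingHom.isUnit_map g.hom (IsUnit.mk0 (G₀ := k) f fun h => hf (by
      show f ∈ (⊥ : Ideal B)
      exact h))
  refine ⟨φ, fun {D} g χ => Over.OverMorphism.ext ?_, fun hsur => ?_⟩
  · have h := hφ g (hunit g)
    rw [univ_res, univ_res] at h
    let l : ∀ {N : Type} [AddCommGroup N], (Multiplicative N →* D) → (GA D N ⟶ D) :=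
      fun {N} _ χ => CommRingCat.ofHom (L (RingHom.id D) χ)
    have hl : ∀ {N : Type} [AddCommGroup N] (χ : Multiplicative N →* D), gmap g N ≫ l χ = gev g χ := fun χ => by
      refine CommRingCat.hom_ext (MonoidAlgebra.ringHom_ext (fun c => ?_) fun m => ?_)
      · simp [l]
      · simp [l]
    rw [Over.comp_left, pt_left, pt_left, ← hl χ, Spec.map_comp, Category.assoc, Category.assoc]
    rw [Category.assoc] at h
    rw [h, ← Category.assoc, ← Category.assoc, ← Spec.map_comp, ← Spec.map_comp]
    refine congrArg (fun z => Spec.map z ≫ (univ τ).left) ?_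
    refine CommRingCat.hom_ext (MonoidAlgebra.ringHom_ext (fun c => ?_) fun m => ?_)
    · simp [l, MonoidAlgebra.mapDomainRingHom]
    · simp [l, MonoidAlgebra.mapDomainRingHom]
  · haveI := FpqcDesc.mono_descends.{u}
    haveI : Nontrivial B := inferInstanceAs (Nontrivial k)
    have h := (SplitHom.chart_iff (MorphismProperty.monomorphisms Scheme.{u}) _ SplitHom.charIff_mono σ τ u φ (𝟙 B)
      (hφ (𝟙 B) (hunit _))).2 hsur
    rw [show Spec.map (𝟙 B) ≫ t = t by rw [Spec.map_id, Category.id_comp]] at h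
    let κ : Spec (CommRingCat.of k) ⟶ Spec (S.residueField (t (IsLocalRing.closedPoint k))) :=
      Spec.map (Scheme.descResidueField (Scheme.stalkClosedPointTo t))
    haveI : Flat κ := (HasRingHomProperty.Spec_iff (P := @Flat)).2 (MonoFibre.flat_of_field _)
    haveI : Surjective κ := ⟨fun z => ⟨IsLocalRing.closedPoint k,
      @Subsingleton.elim _ (inferInstanceAs (Subsingleton (PrimeSpectrum (S.residueField _)))) _ _⟩⟩
    exact SplitHom.of_fpqc (P := MorphismProperty.monomorphisms Scheme.{u}) u κ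
      (Scheme.descResidueField_stalkClosedPointTo_fromSpecResidueField _ _ t) h

theorem eq_top [ConnectedSpace S] {U : S.Opens} (hc : IsClosed (U : Set S)) {s : S} (hs : s ∈ U) : U = ⊤ :=
  SetLike.coe_injective ((IsClopen.eq_univ ⟨hc, U.isOpen⟩ ⟨s, hs⟩).trans TopologicalSpace.Opens.coe_top.symm)

/-- On a connected base a homomorphism trivial at one point is trivial. -/
theorem eq_one_of_triv [ConnectedSpace S] (hH : SGA3x.IsMultTypeFT H) (hG : SGA3x.IsMultTypeFT G) (u : H ⟶ G) (hu : IsMonHom u)
    {k : Type u} [Field k] (t : Spec (CommRingCat.of k) ⟶ S) (h : Triv u t) : u = 1 := by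
  haveI := hu
  haveI : IsAffineHom G.hom := isAffineHom_of_isMultTypeLoc (WeilClosedLib.IsMultTypeLoc.of_isMultTypeFT hG)
  haveI : LocallyOfFiniteType G.hom := MonoFibre.locallyOfFiniteType_of_isMultTypeFT G hG
  obtain ⟨U, hc, hU, hT⟩ := HomTriv.exists_clopen hH (Or.inr inferInstance) u
  let P : PrimeSpectrum (CommRingCat.of k) := IsLocalRing.closedPoint k
  have hP : Triv u (S.fromSpecResidueField (t P)) := by
    refine fibre_of_residue u P fun Y p x => h Y (Over.homMk (p.left ≫ Spec.map (CommRingCat.ofHom (algebraMap (CommRingCat.of k) P.asIdeal.ResidueField))) ?_) x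
    show (p.left ≫ Spec.map _) ≫ t = Y.hom
    rw [Category.assoc]
    exact Over.w p
  obtain rfl := eq_top hc ((hU _).2 hP)
  have := hT H (Over.homMk (H.hom ≫ S.topIso.inv) (by
    show (H.hom ≫ S.topIso.inv) ≫ (⊤ : S.Opens).ι = H.hom
    rw [Category.assoc, ← S.topIso_hom, Iso.inv_hom_id, Category.comp_id])) (𝟙 H)
  rwa [Category.id_comp] at this

/-- On a connected base a homomorphism which is mono at one point is mono. -/
theorem mono_of_residue [ConnectedSpace S] (hH : SGA3x.IsMultTypeFT H) (hG : SGA3x.IsMultTypeFT G) (u : H ⟶ G) (hu : IsMonHom u)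
    {s : S} (h : Mono ((Over.pullback (S.fromSpecResidueField s)).map u).left) : Mono u := by
  haveI := hu
  obtain ⟨U, hc, hU, hT⟩ := SplitHom.exists_clopen_mono hH hG u
  obtain rfl := eq_top hc ((hU _).2 h)
  have h1 : MorphismProperty.monomorphisms Scheme.{u} ((Over.pullback (𝟙 S)).map u).left :=
    SplitHom.of_base (P := MorphismProperty.monomorphisms Scheme.{u}) u S.topIso.inv
      (by rw [← S.topIso_hom, Iso.inv_hom_id]) hT
  haveI : Mono ((Over.pullback (𝟙 S)).map u).left := h1
  haveI : IsIso (pullback.fst H.hom (𝟙 S)) := inferInstance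
  haveI : IsIso (pullback.fst G.hom (𝟙 S)) := inferInstance
  haveI : Mono u.left := by
    rw [show u.left = inv (pullback.fst H.hom (𝟙 S)) ≫ ((Over.pullback (𝟙 S)).map u).left ≫ pullback.fst G.hom (𝟙 S) by
      rw [← (isPullback_bc (𝟙 S) u).w, IsIso.inv_hom_id_assoc]]
    infer_instance
  exact Over.mono_of_mono_left u

/-- Over a connected base a homomorphism of `D(N)` into a group of multiplicative type has an image `D(N₀)`. -/
theorem exists_image [ConnectedSpace S] {N : Type} [AddCommGroup N] [AddGroup.FG N] (hG : SGA3x.IsMultTypeFT G)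
    (w : Red.DS S N ⟶ G) [IsMonHom w] :
    ∃ (N₀ : AddSubgroup N) (g : Red.DS S N₀ ⟶ G),
      IsMonHom g ∧ Mono g ∧ Red.DSmap S N₀.subtype ≫ g = w := by
  obtain ⟨s⟩ := (inferInstance : Nonempty S)
  obtain ⟨k, _, t, M, _, hM, ⟨σ⟩, rfl⟩ := exists_field_split hG s
  obtain ⟨φ, hφ⟩ := exists_char_field (dsSplit N t) σ w
  let N₀ : AddSubgroup N := (MonoidHom.toAdditive φ : M →+ N).range
  haveI : Module.Finite ℤ N := Module.Finite.iff_addGroup_fg.2 inferInstance
  haveI : AddGroup.FG N₀ := Module.Finite.iff_addGroup_fg.1 (inferInstanceAs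
    (Module.Finite ℤ (AddSubgroup.toIntSubmodule N₀)))
  haveI : AddGroup.FG (N ⧸ N₀) := inferInstance
  haveI := isMonHom_DSmap S (QuotientAddGroup.mk' N₀)
  have hu : IsMonHom (Red.DSmap S (QuotientAddGroup.mk' N₀) ≫ w) := inferInstance
  have hone : Red.DSmap S (QuotientAddGroup.mk' N₀) ≫ w = 1 := by
    refine eq_one_of_triv (MultKer.isMultTypeFT_DS S (N ⧸ N₀)) hG _ hu t fun Y p x => ?_
    refine hom_ext_affine _ _ fun D q z => ?_
    rw [MonObj.comp_one]
    obtain ⟨g, hg⟩ := Spec.map_surjective (z ≫ p).left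
    have hq : q = Spec.map g ≫ t := by rw [hg]; exact (Over.w (z ≫ p)).symm
    subst hq
    obtain ⟨χ, hχ⟩ := (dsPt (N ⧸ N₀) (Spec.map g ≫ t)).surjective (z ≫ x)
    rw [← Category.assoc, ← hχ, ← Category.assoc, dsPt_comp]
    refine (hφ g _).trans ?_
    have : (χ.comp (QuotientAddGroup.mk' N₀).toMultiplicative).comp φ = 1 := MonoidHom.ext fun m => by
      have h0 : QuotientAddGroup.mk' N₀ (Multiplicative.toAdd (φ m)) = 0 :=
        (QuotientAddGroup.eq_zero_iff _).2 ⟨Multiplicative.toAdd m, rfl⟩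
      show χ (Multiplicative.ofAdd (QuotientAddGroup.mk' N₀ (Multiplicative.toAdd (φ m)))) = 1
      rw [h0]
      exact map_one χ
    rw [this, map_one]
  haveI := isMonHom_DSmap S N₀.subtype
  have hq : QProp (Red.DSmap S (QuotientAddGroup.mk' N₀)) (Red.DSmap S N₀.subtype) :=
    ⟨isFpqc_DSmap S _ N₀.subtype_injective,
      comp_eq_one _ _ (AddMonoidHom.ext fun n => (QuotientAddGroup.eq_zero_iff _).2 n.2),
      fun k hk => exists_lift_of_comp_eq_one _ _ (QuotientAddGroup.mk'_surjective N₀)
        (by rw [QuotientAddGroup.ker_mk', AddSubgroup.range_subtype]) k hk⟩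
  obtain ⟨g, hg, hgm⟩ := hq.exists_hom w hone
  refine ⟨N₀, g, hgm, ?_, hg⟩
  obtain ⟨ψ, hψ, hmono⟩ := exists_char_field_mono (MultKer.isMultTypeFT_DS S N₀) hG (dsSplit N₀ t) σ g
  refine mono_of_residue (MultKer.isMultTypeFT_DS S N₀) hG g hgm (hmono fun n => ?_)
  let D : CommRingCat.{u} := GA (CommRingCat.of k) N
  let χ : Multiplicative N →* D := MonoidAlgebra.of _ _
  have h1 := hψ (gc (CommRingCat.of k) N) (χ.comp N₀.subtype.toMultiplicative)
  change dsPt N₀ _ _ ≫ g = _ at h1
  rw [← dsPt_comp, Category.assoc, hg] at h1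
  have h2 := (σ.pt _ _).injective ((hφ (gc (CommRingCat.of k) N) χ).symm.trans h1)
  obtain ⟨m, hm⟩ : ∃ m : M, (MonoidHom.toAdditive φ : M →+ N) m = ((Multiplicative.toAdd n : N₀) : N) :=
    (Multiplicative.toAdd n).2
  refine ⟨Multiplicative.ofAdd m, ?_⟩
  apply Multiplicative.toAdd.injective
  apply Subtype.ext
  rw [← hm]
  exact (congrArg Multiplicative.toAdd (MonoidAlgebra.of_injective (DFunLike.congr_fun h2 (Multiplicative.ofAdd m)))).symm

end Groth.Agent.MaxTorus
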