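import Groth.Agent.MaxTorus.LocSplit
/-!
The greatest locally split subtorus over a connected base.
-/

set_option autoImplicit false
set_option backward.isDefEq.respectTransparency false
set_option backward.isDefEq.respectTransparency.types false
set_option linter.style.haveILetI false
set_option linter.unusedSectionVars false

universe u

open CategoryTheory CategoryTheory.Limits MonoidalCategory CartesianMonoidalCategory MonObj AlgebraicGeometry

noncomputable section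

namespace Groth.Agent.MaxTorus

open FixedSmooth HomTriv DSMapLib QuotTorus

variable {S : Scheme.{u}}

theorem IsLocSplit.isTorus {E : Over S} [GrpObj E] (h : IsLocSplit E) : Red.IsTorus E := by
  refine ⟨S, 𝟙 S, inferInstance, inferInstance, fun V hV => ⟨V, hV.isCompact, by simp⟩, fun s => ?_⟩
  obtain ⟨U, hs, r, hr⟩ := h s
  exact ⟨U, hs, r, isSplit_of_comp (𝟙 _) U.ι (by simp) hr⟩

theorem geomPt_range (s : S) : Set.range (Red.geomPt s) ⊆ {s} := by
  rintro _ ⟨y, rfl⟩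
  show (Spec.map _ ≫ S.fromSpecResidueField s) y ∈ ({s} : Set S)
  rw [Scheme.Hom.comp_apply]
  exact (S.range_fromSpecResidueField s).subset ⟨_, rfl⟩

theorem geomFibre_split_of_mem {E : Over S} [GrpObj E] {U : S.Opens} {r : ℕ}
    (hr : Red.IsSplitTorusWith (Fin r → ℤ) (Red.bc U.ι E)) {x : S} (hx : x ∈ U) :
    Red.IsSplitTorusWith (Fin r → ℤ) (Red.geomFibre x E) :=
  isSplit_of_comp (IsOpenImmersion.lift U.ι (Red.geomPt x) fun y hy => by
      obtain rfl := geomPt_range x hy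
      exact U.range_ι.superset hx)
    U.ι (IsOpenImmersion.lift_fac _ _ _) hr

theorem rank_unique {E : Over S} [GrpObj E] {s : S} {r r' : ℕ}
    (h : Red.IsSplitTorusWith (Fin r → ℤ) (Red.geomFibre s E))
    (h' : Red.IsSplitTorusWith (Fin r' → ℤ) (Red.geomFibre s E)) : r = r' :=
  le_antisymm (le_of_mono h h' (𝟙 _) (IsLocalRing.closedPoint _))
    (le_of_mono h' h (𝟙 _) (IsLocalRing.closedPoint _))

/-- Over a connected base the rank of a locally split torus is constant. -/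
theorem IsLocSplit.exists_rank [ConnectedSpace S] {E : Over S} [GrpObj E] (h : IsLocSplit E) :
    ∃ r : ℕ, ∀ s : S, Red.IsSplitTorusWith (Fin r → ℤ) (Red.geomFibre s E) := by
  obtain ⟨s₀⟩ := (inferInstance : Nonempty S)
  obtain ⟨U₀, hs₀, r, hr⟩ := h s₀
  let A : Set S := {x | Red.IsSplitTorusWith (Fin r → ℤ) (Red.geomFibre x E)}
  have hA : IsClopen A := by
    constructor
    · rw [← isOpen_compl_iff, isOpen_iff_forall_mem_open]
      intro x hx
      obtain ⟨U, hxU, r', hr'⟩ := h x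
      refine ⟨U, fun y hy hyA => hx ?_, U.isOpen, hxU⟩
      obtain rfl := rank_unique hyA (geomFibre_split_of_mem hr' hy)
      exact geomFibre_split_of_mem hr' hxU
    · rw [isOpen_iff_forall_mem_open]
      intro x hx
      obtain ⟨U, hxU, r', hr'⟩ := h x
      obtain rfl := rank_unique hx (geomFibre_split_of_mem hr' hxU)
      exact ⟨U, fun y hy => geomFibre_split_of_mem hr' hy, U.isOpen, hxU⟩
  exact ⟨r, fun s => (hA.eq_univ ⟨s₀, geomFibre_split_of_mem hr hs₀⟩).superset (Set.mem_univ s)⟩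

theorem isLocSplit_zero {G : Over S} [GrpObj G] :
    ∃ (T : Over S) (_ : GrpObj T) (j : T ⟶ G), IsMonHom j ∧ Mono j ∧ IsLocSplit T := by
  have h : ∀ (X : Over S) (a b : X ⟶ Red.DS S (Fin 0 → ℤ)), a = b := fun X a b => hom_ext_affine _ _ fun D q w => by
    obtain ⟨χ, hχ⟩ := (dsPt (Fin 0 → ℤ) q).surjective (w ≫ a)
    obtain ⟨χ', hχ'⟩ := (dsPt (Fin 0 → ℤ) q).surjective (w ≫ b)
    rw [← hχ, ← hχ']
    congr 1
    exact MonoidHom.ext fun m => by rw [Subsingleton.elim m 1, map_one, map_one]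
  obtain ⟨T, iT, j, hj, hj', hT⟩ := mem_subtori_one (G := G) (r := 0) (Red.DS S (Fin 0 → ℤ)) ⟨Iso.refl _⟩ h
  obtain ⟨e⟩ := hT
  exact ⟨T, iT, j, hj, hj', fun s => ⟨⊤, trivial, 0, ⟨(Over.pullback (⊤ : S.Opens).ι).mapGrp.mapIso e ≪≫
    dsBc (⊤ : S.Opens).ι (Fin 0 → ℤ)⟩⟩⟩

theorem rank_bound {G : Over S} [GrpObj G] (hG : SGA3x.IsMultTypeFT G) (s : S) :
    ∃ n : ℕ, ∀ (E : Over S) (_ : GrpObj E) (j : E ⟶ G) (r : ℕ), IsMonHom j → Mono j →
      Red.IsSplitTorusWith (Fin r → ℤ) (Red.geomFibre s E) → r ≤ n := by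
  obtain ⟨k, _, t, M, _, hM, ⟨σ⟩, -⟩ :=
    exists_field_split (HomDesc.isMultTypeFT_bc (Red.geomPt s) hG) (IsLocalRing.closedPoint _)
  refine ⟨Module.finrank ℤ M, fun E _ j r hj hj' hr => ?_⟩
  haveI := hj
  haveI := hj'
  haveI : Mono ((Over.pullback (Red.geomPt s)).map j) := Functor.map_mono _ _
  exact rank_le hr ((Over.pullback (Red.geomPt s)).map j) σ

/-- The greatest locally split subtorus over a connected base. -/
theorem exists_greatest_locSplit [ConnectedSpace S] {G : Over S} [GrpObj G] (hG : SGA3x.IsMultTypeFT G) :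
    ∃ (T : Over S) (_ : GrpObj T) (j : T ⟶ G), IsMonHom j ∧ Mono j ∧ IsLocSplit T ∧
      ∀ (T' : Over S) [GrpObj T'] (j' : T' ⟶ G) [IsMonHom j'] [Mono j'], IsLocSplit T' →
        ∃ g : T' ⟶ T, g ≫ j = j' := by
  obtain ⟨s⟩ := (inferInstance : Nonempty S)
  let P : Set ℕ := {r | ∃ (T : Over S) (_ : GrpObj T) (j : T ⟶ G), IsMonHom j ∧ Mono j ∧ IsLocSplit T ∧
    Red.IsSplitTorusWith (Fin r → ℤ) (Red.geomFibre s T)}
  have hne : P.Nonempty := by
    obtain ⟨T, iT, j, hj, hj', hT⟩ := isLocSplit_zero (G := G)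
    obtain ⟨U, hs, r, hr⟩ := hT s
    exact ⟨r, T, iT, j, hj, hj', hT, geomFibre_split_of_mem hr hs⟩
  obtain ⟨n, hn⟩ := rank_bound hG s
  have hbdd : BddAbove P := ⟨n, fun r ⟨T, iT, j, hj, hj', _, hr⟩ => hn T iT j r hj hj' hr⟩
  obtain ⟨T, iT, j, hj, hj', hT, hr⟩ := Nat.sSup_mem hne hbdd
  refine ⟨T, iT, j, hj, hj', hT, fun T' _ j' _ _ hT' => ?_⟩
  haveI := hj
  haveI := hj'
  obtain ⟨E, iE, m, g₁, g₂, hm, hm', hE, e₁, e₂⟩ := exists_sup j j' hG hT hT'
  haveI := hm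
  haveI := hm'
  haveI : IsMonHom g₁ := CommGrpAbLib.isMonHom_of_mono m g₁ j e₁
  haveI : Mono g₁ := mono_of_mono_fac e₁
  obtain ⟨r₁, h₁⟩ := hT.exists_rank
  obtain ⟨r₃, h₃⟩ := hE.exists_rank
  have heq : r₁ = r₃ := by
    refine le_antisymm ?_ ?_
    · haveI : Mono ((Over.pullback (Red.geomPt s)).map g₁) := Functor.map_mono _ _
      exact le_of_mono (h₁ s) (h₃ s) ((Over.pullback (Red.geomPt s)).map g₁) (IsLocalRing.closedPoint _)
    · exact (le_csSup hbdd ⟨E, iE, m, hm, hm', hE, h₃ s⟩).trans_eq (rank_unique hr (h₁ s))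
  haveI : IsIso g₁ := SplitHom.isIso_of_mono_of_sameRank hT.isTorus hE.isTorus g₁ fun x => ⟨r₁, h₁ x, heq ▸ h₃ x⟩
  exact ⟨g₂ ≫ inv g₁, by rw [Category.assoc, (IsIso.inv_comp_eq g₁).2 e₁.symm, e₂]⟩

end Groth.Agent.MaxTorus
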